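import Cfsg.Agent.Lib.Lie.Chev.Univ.CenterEmb

/-!
# The embedding table of `E₆` in `E₇`
-/

set_option autoImplicit false
set_option maxRecDepth 100000

namespace CfsgLib.Lie.CoxTorusE7

open Cfsg.Lie CfsgLib.Lie.Chev CfsgLib.Lie.Chev.Univ

/-- the roots of `E₆` among those of `E₇` -/
noncomputable def embSixSeven : ℕ → ℕ :=
  byteAt 0x7773706e6d6a686765646361605f5e5d5a585755545351504f4e4c4b4a494746454342403d3b3a383736343332312f2e2d2c2a2928262523201f1e1d1c1a1918161513100f0d0a06

theorem embSixSeven_chk : embChkF chevE6 chevE7 fastE6 fastE7 embSixSeven = true := by decide +kernel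

theorem embSixSeven_ok : embChk chevE6 chevE7 embSixSeven = true :=
  embChk_of_fast (fullOf (by simp)) (fullOf (by simp)) (rowsOK chkRows_E6) (rowsOK chkRows_E7) embSixSeven_chk

end CfsgLib.Lie.CoxTorusE7
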