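import Cfsg.Agent.Lib.Lie.Chev.CoxTorus.E7.Mats

/-!
# Coordinates of the lifts into E₈ of the elements fixed in the torus of type E₇
-/

set_option autoImplicit false
set_option maxRecDepth 100000

namespace CfsgLib.Lie.CoxTorusE7

open Cfsg.Lie CfsgLib.Lie.Chev CfsgLib.Lie.CoxTorus CfsgLib.Lie.MonSys CfsgLib.Lie.Homocyclic
open CfsgLib.Lie.EmbPairs CfsgLib.Lie.Chev.Univ CfsgLib.Lie.CoxTorusE6
open scoped MatrixGroups

theorem rho8_pi (j k : Fin chevE8.rank) :
    cE8.G.rho (cE8.G.pw ((word7 piW).map (up embE7_ok)) (cE8.G.simp' j)) k = matN8 j k := by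
  show (fastE8.rho.get (cE8.G.pw ((word7 piW).map (up embE7_ok)) (cE8.G.simp' j)).val).getD k.val 0 =
    n8 j.val k.val
  have e : ((word7 piW).map (up embE7_ok)).map Fin.val = piW := by
    rw [List.map_map]
    exact (List.map_congr_left fun x _ => rfl).trans (word7_val _ piW_lt)
  rw [cE8.G.pw_val checksE8, e, n8, cE8.G.simples_eq' checksE8]

/-- an element of the small group in the torus has a lift with coordinates solving the lifted system -/
theorem fixed_lift {K : Type*} [Field K] {F : Type*} [Field F] (ι : F →+* K) (σ : K →+* K)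
    {q : ℕ} (hσ : ∀ a, σ a = a ^ q) (hσι : σ.comp ι = ι) {c : GL chevE7.Idx K}
    (hc : c ∈ chevE7.group K)
    (hmon : c⁻¹ * fmap chevE7 σ c ∈ chevE7.monomialSubgroup K)
    (hπ : cE7.G.NPerm (c⁻¹ * fmap chevE7 σ c) piSeven)
    {g : GL chevE7.Idx F} (hg : g ∈ chevE7.group F) {c' : Fin chevE7.rank → Kˣ}
    (hu : c⁻¹ * fmap chevE7 ι g * c = cE7.G.torθ c') :
    ∃ e : Fin chevE7.rank → Kˣ, cE7.G.torθ e = cE7.G.torθ c' ∧ msys matS e = e ^ q := by
  classical
  have hP := hasPair_tab (by simp) cE7 (D := chevE7)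
  obtain ⟨cl, hcl⟩ := pairs_lift cE7 cE8 embE7_ok hc
  obtain ⟨gF, hgF⟩ := pairs_lift cE7 cE8 embE7_ok hg
  have h1 := mul_mem (mul_mem (inv_mem hcl) (pairs_fmap cE7 cE8 embE7_ok ι hgF)) hcl
  rw [Prod.inv_mk, Prod.mk_mul_mk, Prod.mk_mul_mk] at h1
  simp only at h1
  rw [hu] at h1
  obtain ⟨κ, hκ, hκe, -⟩ := pairs_ext cE7 cE8 embE7_ok hP (pairs_torθ cE7 cE8 embE7_ok hP c') h1
  rw [← map_mul, ← map_mul] at hκe
  refine ⟨c' * κ, by rw [map_mul, MonoidHom.mem_ker.1 hκ, mul_one], ?_⟩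
  set e := c' * κ
  -- the twisting element in E₈
  have hd : (c⁻¹ * fmap chevE7 σ c) * (cE7.G.nw (word7 piW))⁻¹ ∈ chevE7.diagonalSubgroup K := by
    refine cE7.G.mem_H_of_nPerm_one (mul_mem hmon (inv_mem (cE7.G.nw_mem_monomial _))) ?_
    have h2 := Good.NPerm.mul cE7.G hπ
      (Good.NPerm.inv cE7.G (cE7.G.nPerm_nw (K := K) (word7 piW)))
    rwa [show piSeven * (cE7.G.pw (word7 piW))⁻¹ = 1 from mul_inv_cancel _] at h2
  rw [cE7.G.diagonal_eq_range] at hd
  obtain ⟨d, hd⟩ := hd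
  obtain ⟨κ', -, hκ', -⟩ := pairs_ext cE7 cE8 embE7_ok hP
    (pairs_monomial cE7 cE8 embE7_ok hP (word7 piW) d hd) (pairs_twist cE7 cE8 embE7_ok σ hcl)
  set m := cl⁻¹ * fmap chevE8 σ cl with hm
  have hdiag : ∀ a : Fin chevE8.rank → Kˣ, cE8.G.torθ a ∈ chevE8.diagonalSubgroup K := fun a =>
    (cE8.G.diagonal_eq_range (K := K)).symm ▸ MonoidHom.mem_range.2 ⟨a, rfl⟩
  have hmperm : cE8.G.NPerm m (cE8.G.pw ((word7 piW).map (up embE7_ok))) := by
    have h := Good.NPerm.mul cE8.G (Good.NPerm.mul cE8.G (cE8.G.nPerm_H (hdiag (pad chevE7 chevE8 d)))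
      (cE8.G.nPerm_nw (K := K) ((word7 piW).map (up embE7_ok))))
      (cE8.G.nPerm_H (hdiag (pad chevE7 chevE8 κ')))
    rwa [one_mul, mul_one, ← hκ'] at h
  -- the lift is fixed
  set t := cl⁻¹ * fmap chevE8 ι gF * cl with ht
  have hte : t = cE8.G.tor (msys matC8 e) := hκe.trans (torθ8_pad e)
  have hmt : m * fmap chevE8 σ t = t * m := by
    rw [ht, hm, map_mul, map_mul, map_inv, fmap_fmap, hσι]
    group
  rw [hte, cE8.G.fmap_tor] at hmt
  set a := msys matC8 e with ha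
  have hrow : msys matN8 a = a ^ q := by
    funext j
    have h := chi_of_conj cE8 hmperm hmt (cE8.G.simp' j)
    rw [cE8.G.rho_simp (i := j), cE8.G.chi_single] at h
    refine Eq.trans ?_ (h.trans (Units.ext (by simpa using hσ (a j : K))))
    show ∏ k, a k ^ matN8 j k = _
    simp only [Good.chi, rho8_pi]
  have h2 := congrArg (msys matB8) hrow
  rw [map_pow, ha, ← msys_mul, ← msys_mul, ← msys_mul, matB8_matC8, msys_one] at h2
  rw [matS]
  first | exact h2 | (rw [Matrix.mul_assoc] at h2; exact h2)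

end CfsgLib.Lie.CoxTorusE7
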