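import Cfsg.Agent.Lib.Lie.Chev.CoxTorus.E7.NData

/-!
# The matrices of the torus of type E₇ and of its lift into E₈
-/

set_option autoImplicit false
set_option maxRecDepth 100000

namespace CfsgLib.Lie.CoxTorusE7

open Cfsg.Lie CfsgLib.Lie.Chev CfsgLib.Lie.CoxTorus CfsgLib.Lie.MonSys CfsgLib.Lie.EmbPairs
open CfsgLib.Lie.CoxTorusE6 CfsgLib.Lie.Homocyclic Matrix Polynomial

theorem rank8 : chevE8.rank = 8 := by decide +kernel

theorem sum7 {M : Type*} [AddCommMonoid M] (f : ℕ → M) :
    ∑ k : Fin chevE7.rank, f k.val = ∑ k : Fin 7, f k.val :=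
  Fintype.sum_equiv (finCongr rank7) _ _ fun _ => rfl

theorem sum8 {M : Type*} [AddCommMonoid M] (f : ℕ → M) :
    ∑ k : Fin chevE8.rank, f k.val = ∑ k : Fin 8, f k.val :=
  Fintype.sum_equiv (finCongr rank8) _ _ fun _ => rfl

/-- the matrix of the twisting element -/
noncomputable def matN : Matrix (Fin chevE7.rank) (Fin chevE7.rank) ℤ := wm cE7 piSeven

theorem piSeven_mem : piSeven ∈ cE7.G.Wg := cE7.G.pw_mem _

theorem pi_val (i : ℕ) (s : Fin chevE7.nroots) : ((piSeven ^ i) s).val = piI i s.val := by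
  induction i with
  | zero => rfl
  | succ i ih =>
    rw [pow_succ', Equiv.Perm.mul_apply, piSeven, pw7_val piW_lt, ← piSeven,
      ← piT_spec ⟨_, nroots126 ▸ ((piSeven ^ i) s).isLt⟩]
    show piT ((piSeven ^ i) s).val = piT (iterN piT i s.val)
    rw [ih]
    rfl

theorem rho7 (s : Fin chevE7.nroots) (k : Fin chevE7.rank) : cE7.G.rho s k = rc7 s.val k.val := rfl

theorem simp7_val (i : Fin chevE7.rank) : (cE7.G.simp' i).val = fastE7.simples.get i.val :=
  (cE7.G.simples_eq' checksE7 i).symm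

theorem rho_pi (i : ℕ) (s : Fin chevE7.nroots) (k : Fin chevE7.rank) :
    (cE7.G.rho s ᵥ* matN ^ i) k = rc7 (piI i s.val) k.val := by
  rw [matN, ← wm_pow cE7 piSeven_mem, ← rho_perm cE7 (pow_mem piSeven_mem i), rho7, pi_val]

theorem matN_pow (i : ℕ) (j k : Fin chevE7.rank) :
    (matN ^ i) j k = rc7 (piI i (fastE7.simples.get j.val)) k.val := by
  rw [matN, ← wm_pow cE7 piSeven_mem, wm, Matrix.of_apply, rho7, pi_val, simp7_val]

theorem matN_apply (j k : Fin chevE7.rank) : matN j k = n7 j.val k.val := by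
  rw [← pow_one matN, matN_pow]; rfl

theorem matN_pow_twelve : matN ^ 12 = 1 := by
  ext j k
  rw [matN_pow, show piI 12 (fastE7.simples.get j.val) = fastE7.simples.get j.val from
    pi_ord ⟨j.val, rank7 ▸ j.isLt⟩, Matrix.one_apply, ← simp7_val, ← rho7, cE7.G.rho_simp,
    Pi.single_apply]
  simp only [eq_comm]

theorem matN_det (q : ℤ) : (q • (1 : Matrix (Fin chevE7.rank) (Fin chevE7.rank) ℤ) - matN).det =
    (q ^ 4 - q ^ 2 + 1) * (q ^ 3 + 1) := by
  set M : Matrix (Fin 7) (Fin 7) ℤ := Matrix.of fun a b => n7 a.val b.val with hM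
  have h0 : (q • (1 : Matrix (Fin chevE7.rank) (Fin chevE7.rank) ℤ) - matN).det = M.charpoly.eval q := by
    rw [Matrix.eval_charpoly, Matrix.scalar_apply, ← Matrix.smul_one_eq_diagonal,
      ← Matrix.det_submatrix_equiv_self (finCongr rank7.symm)]
    congr 1
    ext a b
    simp only [hM, Matrix.submatrix_apply, Matrix.sub_apply, Matrix.smul_apply, Matrix.one_apply,
      Matrix.of_apply, smul_eq_mul, matN_apply, Fin.ext_iff]
    simp
  rw [h0]
  set P : ℤ[X] := (X ^ 4 - X ^ 2 + 1) * (X ^ 3 + 1) with hP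
  suffices h : M.charpoly = P by rw [h, hP]; simp
  have hPd : P.natDegree = 7 := by rw [hP]; compute_degree!
  have hMd : M.charpoly.natDegree = 7 := by simp [Matrix.charpoly_natDegree_eq_dim]
  refine sub_eq_zero.1 (Polynomial.eq_zero_of_natDegree_lt_card_of_eval_eq_zero _
    (f := fun i : Fin 8 => (i.val : ℤ)) (fun a b e => Fin.ext (Int.natCast_inj.1 e)) (fun i => ?_) ?_)
  · have hd := det_values7 i
    rw [lapD_eq] at hd
    rw [eval_sub, Matrix.eval_charpoly, Matrix.scalar_apply, sub_eq_zero]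
    refine Eq.trans ?_ (hd.trans (by simp [hP]))
    congr 1
    ext a b
    simp [hM, Matrix.diagonal_apply, Fin.ext_iff]
  · rw [Fintype.card_fin]
    calc (M.charpoly - P).natDegree ≤ max M.charpoly.natDegree P.natDegree := natDegree_sub_le _ _
      _ < 8 := by rw [hMd, hPd]; norm_num

theorem matN_charpoly_dvd : matN.charpoly ∣ X ^ 12 - 1 := by
  have h : matN.charpoly = (X ^ 4 - X ^ 2 + 1) * (X ^ 3 + 1) := by
    refine Polynomial.funext fun q => ?_
    rw [Matrix.eval_charpoly, Matrix.scalar_apply, ← Matrix.smul_one_eq_diagonal, matN_det]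
    simp
  exact ⟨(X ^ 2 + 1) * (X ^ 3 - 1), by rw [h]; ring⟩

/-- the Cartan matrix -/
noncomputable def matA : Matrix (Fin chevE7.rank) (Fin chevE7.rank) ℤ := Matrix.of fun l i => a7 l.val i.val

/-- twice its inverse -/
def matB : Matrix (Fin chevE7.rank) (Fin chevE7.rank) ℤ := Matrix.of fun l i => b7 l.val i.val

/-- the columns of the Cartan matrix of E₈ that belong to E₇ -/
noncomputable def matC8 : Matrix (Fin chevE8.rank) (Fin chevE7.rank) ℤ := Matrix.of fun l i => a8 l.val i.val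

/-- seven rows of the inverse of the Cartan matrix of E₈ -/
def matB8 : Matrix (Fin chevE7.rank) (Fin chevE8.rank) ℤ := Matrix.of fun l i => b8 l.val i.val

/-- the twisting element in E₈ -/
noncomputable def matN8 : Matrix (Fin chevE8.rank) (Fin chevE8.rank) ℤ := Matrix.of fun l i => n8 l.val i.val

/-- the twisting element on the coordinates of the lifts -/
noncomputable def matS : Matrix (Fin chevE7.rank) (Fin chevE7.rank) ℤ := matB8 * (matN8 * matC8)

theorem matS_apply (i k : Fin chevE7.rank) : matS i k = msc i.val k.val := by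
  simp only [matS, Matrix.mul_apply, matB8, matN8, matC8, Matrix.of_apply, msc]
  rw [sum8 fun a => b8 i.val a * ∑ b : Fin chevE8.rank, n8 a b.val * a8 b.val k.val]
  exact Finset.sum_congr rfl fun a _ => by rw [sum8 fun b => n8 a.val b * a8 b k.val]

theorem ite_val (i k : Fin chevE7.rank) (x : ℤ) :
    (if (⟨i.val, rank7 ▸ i.isLt⟩ : Fin 7) = ⟨k.val, rank7 ▸ k.isLt⟩ then x else 0) =
      if i = k then x else 0 := by
  simp [Fin.ext_iff]

theorem matA_matB : matA * matB = (2 : ℤ) • 1 := by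
  ext i k
  simp only [Matrix.mul_apply, matA, matB, Matrix.of_apply]
  rw [sum7 fun b => a7 i.val b * b7 b k.val, Matrix.smul_apply, Matrix.one_apply,
    smul_eq_mul, mul_ite, mul_one, mul_zero]
  exact (a7_b7 ⟨i.val, rank7 ▸ i.isLt⟩ ⟨k.val, rank7 ▸ k.isLt⟩).trans (ite_val i k 2)

theorem matB_matA : matB * matA = (2 : ℤ) • 1 := by
  ext i k
  simp only [Matrix.mul_apply, matA, matB, Matrix.of_apply]
  rw [sum7 fun b => b7 i.val b * a7 b k.val, Matrix.smul_apply, Matrix.one_apply,
    smul_eq_mul, mul_ite, mul_one, mul_zero]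
  exact (b7_a7 ⟨i.val, rank7 ▸ i.isLt⟩ ⟨k.val, rank7 ▸ k.isLt⟩).trans (ite_val i k 2)

theorem matA_det_ne : matA.det ≠ 0 := fun h => by
  have e := congrArg Matrix.det matA_matB
  rw [Matrix.det_mul, h, zero_mul, Matrix.det_smul, Matrix.det_one, mul_one] at e
  exact pow_ne_zero _ two_ne_zero e.symm

theorem matB8_matC8 : matB8 * matC8 = 1 := by
  ext i k
  simp only [Matrix.mul_apply, matB8, matC8, Matrix.of_apply]
  rw [sum8 fun b => b8 i.val b * a8 b k.val, Matrix.one_apply]
  exact (b8_a8 ⟨i.val, rank7 ▸ i.isLt⟩ ⟨k.val, rank7 ▸ k.isLt⟩).trans (ite_val i k 1)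

theorem matN_matA : matN * matA = matA * matS := by
  ext i k
  simp only [Matrix.mul_apply, matS_apply, matN_apply, matA, Matrix.of_apply]
  rw [sum7 fun b => n7 i.val b * a7 b k.val, sum7 fun b => a7 i.val b * msc b k.val]
  exact n7_a7 ⟨i.val, rank7 ▸ i.isLt⟩ ⟨k.val, rank7 ▸ k.isLt⟩

theorem sub_matA (q : ℤ) : (q • 1 - matN) * matA = matA * (q • 1 - matS) := by
  rw [Matrix.sub_mul, Matrix.mul_sub, matN_matA, smul_mul, one_mul, Matrix.mul_smul, mul_one]

theorem matS_det (q : ℤ) : (q • 1 - matS).det = (q • 1 - matN).det := by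
  have e := congrArg Matrix.det (sub_matA q)
  rw [Matrix.det_mul, Matrix.det_mul, mul_comm] at e
  exact (mul_left_cancel₀ matA_det_ne e).symm

theorem matS_pow_twelve : matS ^ 12 = 1 := by
  have hp : ∀ i : ℕ, matN ^ i * matA = matA * matS ^ i := fun i => by
    induction i with
    | zero => simp
    | succ i ih => rw [pow_succ, mul_assoc, matN_matA, ← mul_assoc, ih, mul_assoc, ← pow_succ]
  have e := congrArg (matB * ·) (hp 12)
  simp only [matN_pow_twelve, one_mul] at e
  rw [← mul_assoc, matB_matA, smul_mul, one_mul] at e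
  exact (smul_right_injective _ (two_ne_zero (α := ℤ)) e).symm

theorem cart7 (l i : Fin chevE7.rank) : a7 l.val i.val = cart chevE7 i (cE7.G.simp' l) := by
  refine (congrArg (cartF fastE7 i.val) (cE7.G.simples_eq' checksE7 l)).trans ?_
  exact cartF_cart (rowsOK checksE7.rows) i (cE7.G.simp' l)

theorem cart8 (l i : Fin chevE8.rank) : a8 l.val i.val = cart chevE8 i (cE8.G.simp' l) := by
  refine (congrArg (cartF fastE8 i.val) (cE8.G.simples_eq' checksE8 l)).trans ?_
  exact cartF_cart (rowsOK checksE8.rows) i (cE8.G.simp' l)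

variable {K : Type*} [Field K]

theorem torθ7 (c : Fin chevE7.rank → Kˣ) : cE7.G.torθ c = cE7.G.tor (msys matA c) := by
  refine congrArg cE7.G.tor (funext fun l => ?_)
  show ∏ i, c i ^ cart chevE7 i (cE7.G.simp' l) = ∏ i, c i ^ matA l i
  refine Finset.prod_congr rfl fun i _ => ?_
  rw [matA, Matrix.of_apply, cart7]

theorem torθ8_pad (c : Fin chevE7.rank → Kˣ) :
    cE8.G.torθ (pad chevE7 chevE8 c) = cE8.G.tor (msys matC8 c) := by
  classical
  refine congrArg cE8.G.tor (funext fun l => ?_)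
  show ∏ i, pad chevE7 chevE8 c i ^ cart chevE8 i (cE8.G.simp' l) = ∏ k, c k ^ matC8 l k
  symm
  have hu : ∀ k : Fin chevE7.rank, pad chevE7 chevE8 c (up Univ.embE7_ok k) = c k := fun k =>
    dif_pos (show (up Univ.embE7_ok k).val < chevE7.rank from k.isLt)
  refine Finset.prod_bij_ne_one (fun k _ _ => up Univ.embE7_ok k) (fun _ _ _ => Finset.mem_univ _)
    (fun a _ _ b _ _ e => Fin.ext (congrArg Fin.val e :)) (fun j _ hj => ?_) fun k _ _ => ?_
  · by_cases h : j.val < chevE7.rank
    · refine ⟨⟨j.val, h⟩, Finset.mem_univ _, ?_, Fin.ext rfl⟩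
      have e : pad chevE7 chevE8 c j = c ⟨j.val, h⟩ := dif_pos h
      rw [e] at hj
      rw [matC8, Matrix.of_apply]
      exact (show a8 l.val j.val = cart chevE8 j (cE8.G.simp' l) from cart8 l j) ▸ hj
    · exact absurd (by rw [show pad chevE7 chevE8 c j = 1 from dif_neg h, _root_.one_zpow]) hj
  · rw [hu, matC8, Matrix.of_apply, ← cart8 l (up Univ.embE7_ok k)]
    rfl

end CfsgLib.Lie.CoxTorusE7
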