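import Cfsg.Agent.Lib.Lie.Chev.CoxTorus.System
import Mathlib.RingTheory.RootsOfUnity.EnoughRootsOfUnity
import Mathlib.LinearAlgebra.Matrix.Charpoly.Basic

/-!
# Monomial maps given by integral matrices, and their kernels in the units of a field
-/

set_option autoImplicit false

namespace CfsgLib.Lie.MonSys

open Matrix CfsgLib.Lie.CoxTorus

variable {G : Type*} [CommGroup G] {a b c : ℕ}

/-- the monomial map of a matrix -/
def msys (A : Matrix (Fin a) (Fin b) ℤ) : (Fin b → G) →* (Fin a → G) where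
  toFun u j := ∏ k, u k ^ A j k
  map_one' := funext fun j => by simp
  map_mul' u v := funext fun j => by simp [mul_zpow, Finset.prod_mul_distrib]

theorem msys_apply (A : Matrix (Fin a) (Fin b) ℤ) (u : Fin b → G) (j : Fin a) :
    msys A u j = ∏ k, u k ^ A j k := rfl

theorem zpow_sum {ι : Type*} (s : Finset ι) (g : G) (f : ι → ℤ) :
    g ^ (∑ i ∈ s, f i) = ∏ i ∈ s, g ^ f i := by
  classical
  induction s using Finset.induction with
  | empty => simp
  | insert i s hi ih => rw [Finset.sum_insert hi, Finset.prod_insert hi, zpow_add, ih]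

theorem msys_mul (A : Matrix (Fin a) (Fin b) ℤ) (B : Matrix (Fin b) (Fin c) ℤ) (u : Fin c → G) :
    msys (A * B) u = msys A (msys B u) := by
  funext j
  simp only [msys_apply, Matrix.mul_apply, zpow_sum, ← Finset.prod_zpow, ← zpow_mul]
  rw [Finset.prod_comm]
  exact Finset.prod_congr rfl fun i _ => Finset.prod_congr rfl fun k _ => by rw [mul_comm]

theorem msys_one (u : Fin a → G) : msys (1 : Matrix (Fin a) (Fin a) ℤ) u = u := by
  funext j
  rw [msys_apply, Finset.prod_eq_single j]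
  · simp
  · intro k _ hk; simp [Matrix.one_apply, Ne.symm hk]
  · simp

theorem msys_smul (n : ℤ) (A : Matrix (Fin a) (Fin b) ℤ) (u : Fin b → G) :
    msys (n • A) u = msys A u ^ n := by
  funext j
  simp only [msys_apply, Pi.pow_apply, Matrix.smul_apply, smul_eq_mul, ← Finset.prod_zpow]
  exact Finset.prod_congr rfl fun k _ => by rw [← zpow_mul, mul_comm]

theorem msys_sub (A B : Matrix (Fin a) (Fin b) ℤ) (u : Fin b → G) :
    msys (A - B) u = msys A u / msys B u := by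
  funext j
  simp [msys_apply, zpow_sub, Finset.prod_mul_distrib, div_eq_mul_inv]

/-- the system `u ^ q = M u` -/
theorem mem_ker_sub {q : ℤ} (M : Matrix (Fin a) (Fin a) ℤ) (u : Fin a → G) :
    u ∈ (msys (q • (1 : Matrix (Fin a) (Fin a) ℤ) - M)).ker ↔ msys M u = u ^ q := by
  rw [MonoidHom.mem_ker, msys_sub, msys_smul, msys_one, div_eq_one, eq_comm]

/-- the matrix `∑ q ^ i M ^ (h - 1 - i)` -/
def geoMat (h : ℕ) (q : ℤ) (M : Matrix (Fin a) (Fin a) ℤ) : Matrix (Fin a) (Fin a) ℤ :=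
  ∑ i ∈ Finset.range h, q ^ i • M ^ (h - 1 - i)

theorem sub_mul_geoMat {h : ℕ} (q : ℤ) {M : Matrix (Fin a) (Fin a) ℤ} (hM : M ^ h = 1) :
    (q • (1 : Matrix (Fin a) (Fin a) ℤ) - M) * geoMat h q M = (q ^ h - 1) • 1 := by
  have hc : Commute (q • (1 : Matrix (Fin a) (Fin a) ℤ)) M := (Commute.one_left M).smul_left _
  have e := hc.mul_geom_sum₂ h
  rw [hM, smul_pow, one_pow] at e
  rw [sub_smul, one_smul, ← e, geoMat]
  congr 1
  exact Finset.sum_congr rfl fun i _ => by rw [smul_pow, one_pow, smul_mul_assoc, one_mul]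

theorem geoMat_mul_sub {h : ℕ} (q : ℤ) {M : Matrix (Fin a) (Fin a) ℤ} (hM : M ^ h = 1) :
    geoMat h q M * (q • (1 : Matrix (Fin a) (Fin a) ℤ) - M) = (q ^ h - 1) • 1 := by
  rw [← sub_mul_geoMat q hM]
  refine (Commute.sub_left ((Commute.one_left _).smul_left q) ?_).eq.symm
  exact Commute.sum_right _ _ _ fun i _ => (Commute.pow_right (Commute.refl M) _).smul_right _

theorem vecMul_geoMat {h : ℕ} (q : ℤ) (M : Matrix (Fin a) (Fin a) ℤ) (x : Fin a → ℤ) :
    x ᵥ* geoMat h q M = ∑ i ∈ Finset.range h, q ^ i • (x ᵥ* M ^ (h - 1 - i)) := by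
  rw [geoMat, Matrix.vecMul_sum]
  exact Finset.sum_congr rfl fun i _ => by rw [Matrix.vecMul_smul]

section

variable {K : Type*} [Field K] {l : ℕ} {R R' : Matrix (Fin l) (Fin l) ℤ} {n : ℕ}

theorem ker_torsion (hR : R' * R = (n : ℤ) • 1) {u : Fin l → Kˣ} (hu : u ∈ (msys R).ker) :
    u ^ n = 1 := by
  have e : msys (R' * R) u = 1 := by rw [msys_mul, MonoidHom.mem_ker.1 hu, map_one]
  rwa [hR, msys_smul, msys_one, zpow_natCast] at e

theorem card_ker [NeZero n] (hn : ∃ ζ : K, IsPrimitiveRoot ζ n) (hR : R' * R = (n : ℤ) • 1)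
    (hR' : R * R' = (n : ℤ) • 1) (hdet : R.det ≠ 0) :
    Nat.card (msys R : (Fin l → Kˣ) →* _).ker = R.det.natAbs := by
  obtain ⟨ζ, hζ⟩ := hn
  have hcard : Nat.card (rootsOfUnity n K) = n := hζ.card_rootsOfUnity
  rw [← card_system (G := rootsOfUnity n K) R R' (by rw [hcard]; exact hR') hdet]
  let f : {u : Fin l → rootsOfUnity n K // ∀ j, ∏ k, u k ^ R j k = 1} →
      (msys R : (Fin l → Kˣ) →* _).ker :=
    fun u => ⟨fun j => (u.1 j : Kˣ), funext fun j => by
      have e := congrArg (Subgroup.subtype (rootsOfUnity n K)) (u.2 j)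
      simpa [map_prod, map_zpow, msys_apply] using e⟩
  refine (Nat.card_eq_of_bijective f ⟨?_, ?_⟩).symm
  · intro u v e
    exact Subtype.ext (funext fun j => Subtype.ext (congrFun (congrArg Subtype.val e) j))
  · rintro ⟨u, hu⟩
    refine ⟨⟨fun j => ⟨u j, (mem_rootsOfUnity n _).2 (congrFun (ker_torsion hR hu) j)⟩, fun j => ?_⟩, rfl⟩
    refine Subtype.ext ?_
    have e := congrFun (MonoidHom.mem_ker.1 hu) j
    simpa [msys_apply] using e

theorem finite_ker [NeZero n] (hR : R' * R = (n : ℤ) • 1) :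
    Finite (msys R : (Fin l → Kˣ) →* _).ker :=
  Finite.of_injective
    (fun u j => (⟨u.1 j, (mem_rootsOfUnity n _).2 (congrFun (ker_torsion hR u.2) j)⟩ : rootsOfUnity n K))
    fun u v e => Subtype.ext (funext fun j => congrArg Subtype.val (congrFun e j))

theorem unit_zpow_mem_ker (hR' : R * R' = (n : ℤ) • 1) {ζ : Kˣ} (hζ : ζ ^ n = 1) (m : Fin l) :
    (fun k => ζ ^ R' k m) ∈ (msys R).ker := by
  have e : (fun k => ζ ^ R' k m) = msys R' (Pi.mulSingle m ζ) := by
    funext k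
    rw [msys_apply, Finset.prod_eq_single m]
    · rw [Pi.mulSingle_eq_same]
    · intro b _ hb; rw [Pi.mulSingle_eq_of_ne hb, one_zpow]
    · simp
  rw [e, MonoidHom.mem_ker, ← msys_mul, hR', msys_smul, msys_one, zpow_natCast]
  funext k
  rw [Pi.pow_apply]
  by_cases hk : k = m
  · subst hk; rw [Pi.mulSingle_eq_same]; exact hζ
  · rw [Pi.mulSingle_eq_of_ne hk, one_pow]; rfl

/-- the kernel is cyclic when every eigenspace modulo a prime is at most a line -/
theorem cyclic_ker {q : ℤ} {M : Matrix (Fin l) (Fin l) ℤ}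
    [Finite (msys (q • (1 : Matrix (Fin l) (Fin l) ℤ) - M) : (Fin l → Kˣ) →* _).ker]
    (h : ∀ ℓ : ℕ, ℓ.Prime → ∀ μ : ZMod ℓ,
      Nat.card {z : Fin l → ZMod ℓ // red (ZMod ℓ) M *ᵥ z = μ • z} ≤ ℓ) :
    IsCyclic (msys (q • (1 : Matrix (Fin l) (Fin l) ℤ) - M) : (Fin l → Kˣ) →* _).ker := by
  refine isCyclic_of_prime_torsion (fun u v => mul_comm u v) fun ℓ hℓ => ?_
  haveI := Fact.mk hℓ
  obtain ⟨δ, hδg⟩ := IsCyclic.exists_generator (α := rootsOfUnity ℓ K)
  have hord : orderOf δ ∣ ℓ := orderOf_dvd_of_pow_eq_one (Subtype.ext ((mem_rootsOfUnity ℓ _).1 δ.2))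
  set T := (msys (q • (1 : Matrix (Fin l) (Fin l) ℤ) - M) : (Fin l → Kˣ) →* _).ker
  have hex : ∀ (u : {u : T // u ^ ℓ = 1}) k, ∃ j : ℤ, (δ : Kˣ) ^ j = u.1.1 k := fun u k => by
    have h1 : u.1.1 k ∈ rootsOfUnity ℓ K :=
      (mem_rootsOfUnity ℓ _).2 (congrFun (congrArg Subtype.val u.2) k)
    obtain ⟨j, hj⟩ := Subgroup.mem_zpowers_iff.1 (hδg ⟨_, h1⟩)
    exact ⟨j, congrArg Subtype.val hj⟩
  choose j hj using hex
  rcases (Nat.dvd_prime hℓ).1 hord with h1 | h1
  · haveI : Subsingleton {u : T // u ^ ℓ = 1} := ⟨fun u v => Subtype.ext (Subtype.ext (funext fun k => by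
      rw [← hj u k, ← hj v k, orderOf_eq_one_iff.1 h1, OneMemClass.coe_one, one_zpow, one_zpow]))⟩
    exact (Finite.card_le_one_iff_subsingleton.2 inferInstance).trans hℓ.one_lt.le
  · have hδ : IsPrimitiveRoot (δ : Kˣ) ℓ := by
      have h2 := IsPrimitiveRoot.orderOf (δ : Kˣ)
      rwa [Subgroup.orderOf_coe, h1] at h2
    have heig : ∀ u, red (ZMod ℓ) M *ᵥ (fun k => ((j u k : ℤ) : ZMod ℓ)) =
        (q : ZMod ℓ) • fun k => ((j u k : ℤ) : ZMod ℓ) := fun u => by
      funext i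
      have e := congrFun ((mem_ker_sub M u.1.1).1 u.1.2) i
      rw [msys_apply, Pi.pow_apply] at e
      simp only [← hj u] at e
      rw [prod_zpow_zpow, ← zpow_mul, ← mul_inv_eq_one, ← zpow_sub, hδ.zpow_eq_one_iff_dvd,
        ← ZMod.intCast_zmod_eq_zero_iff_dvd, Int.cast_sub, Int.cast_mul, sub_eq_zero] at e
      rw [Pi.smul_apply, smul_eq_mul, mul_comm, ← e]
      simp [Matrix.mulVec, dotProduct, red_apply]
    refine le_trans (Nat.card_le_card_of_injective (fun u => ⟨_, heig u⟩) fun u v huv => ?_) (h ℓ hℓ (q : ZMod ℓ))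
    refine Subtype.ext (Subtype.ext (funext fun k => ?_))
    rw [← hj u k, ← hj v k, ← mul_inv_eq_one, ← zpow_sub, hδ.zpow_eq_one_iff_dvd]
    exact (ZMod.intCast_eq_intCast_iff_dvd_sub _ _ _).1 (congrFun (congrArg Subtype.val huv) k).symm

end

end CfsgLib.Lie.MonSys
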