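import Cfsg.Agent.Lib.Lie.Chev.CoxTorus.E7.Twist
import Cfsg.Agent.Lib.Lie.Chev.CoxTorus.E7.Sys
import Cfsg.Agent.Lib.Lie.Chev.CoxTorus.Data

/-!
# The twisting element of type E₇: tables and kernel-checked certificates
-/

set_option autoImplicit false
set_option maxRecDepth 100000

namespace CfsgLib.Lie.CoxTorusE7

open Cfsg.Lie CfsgLib.Lie.Chev CfsgLib.Lie.CoxTorus CfsgLib.Lie.Chev.Univ CfsgLib.Lie.CoxTorusE6

/-- the action of the twisting element on the root indices -/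
noncomputable def piT : ℕ → ℕ := byteAt 0x706a7661607d7343427a5a24653e643c772e724c714b7c5e2b6e6d3814555435492a6c476b467b5d276867622f75745f330e515030441a5c5b2605402504661779583d7857222163394d2d2c6f4a1e09084e1b16155620023712361153344829286945100f521f01320c310b4f0641193f185923033b3a0a001d1c07130d

theorem piT_spec : ∀ x : Fin 126, piT x.val = wordF fastE7 piW x.val := by decide +kernel

/-- a power of the twisting element on the root indices -/
noncomputable def piI (i x : ℕ) : ℕ := iterN piT i x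

/-- a coordinate of a root -/
noncomputable def rc7 (x k : ℕ) : ℤ := (fastE7.rho.get x).getD k 0

/-- an entry of the matrix of the twisting element -/
noncomputable def n7 (j k : ℕ) : ℤ := rc7 (piI 1 (fastE7.simples.get j)) k

theorem pi_ord : ∀ j : Fin 7, piI 12 (fastE7.simples.get j.val) = fastE7.simples.get j.val := by
  decide +kernel

/-- the value of `∑ q ^ i * x (n - 1 - i)` -/
noncomputable def hor (q : ℤ) (x : ℕ → ℤ) (n : ℕ) : ℤ := Nat.rec 0 (fun i ih => ih * q + x i) n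

theorem rc7_bound : ∀ s : Fin 126, ∀ k : Fin 7, (rc7 s.val k.val).natAbs ≤ 4 := by decide +kernel

/-- twice the gcd-exponent: `gcd 2 (q - 1)` -/
def dq (q : ℕ) : ℕ := if q % 2 = 0 then 1 else 2

/-- the pairs left over at `q = 2` -/
def excB (q t j : ℕ) : Bool :=
  q == 2 && ((j == 1 && t == 6) || (j == 3 && t == 53) || (j == 6 && t == 101))

/-- no root and no difference of a root and a fundamental root is trivial on the solutions -/
noncomputable def regB (q t : ℕ) : Bool :=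
  ((List.range 7).any fun k =>
      ((dq q : ℤ) * hor q (fun i => rc7 (piI i t) k) 12) % ((q : ℤ) ^ 12 - 1) != 0) &&
  (List.range 7).all fun j => t == fastE7.simples.get j || excB q t j ||
    (List.range 7).any fun k =>
      ((dq q : ℤ) * hor q (fun i => rc7 (piI i t) k - rc7 (piI i (fastE7.simples.get j)) k) 12) %
        ((q : ℤ) ^ 12 - 1) != 0

theorem regB_ok : ∀ q : Fin 16, ∀ t : Fin 126, regB (q.val + 2) t.val = true := by
  intro q
  fin_cases q <;> decide +kernel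

/-- the root sent to by a fundamental root in the exceptional cases -/
noncomputable def altR (b : Fin 7 → Bool) (j : Fin 7) : ℕ :=
  if b j then (if j.val = 1 then 6 else if j.val = 3 then 53 else 101) else fastE7.simples.get j.val

theorem alt_noncomm : ∀ b₁ b₂ b₃ : Bool, (b₁ || b₂ || b₃) = true → ∃ j k : Fin 7,
    let b : Fin 7 → Bool := fun i => if i.val = 1 then b₁ else if i.val = 3 then b₂ else
      if i.val = 6 then b₃ else false
    (∑ i : Fin 7, rc7 (altR b j) i.val * n7 i.val k.val) ≠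
      ∑ i : Fin 7, n7 j.val i.val * rc7 (altR b i) k.val := by
  decide +kernel

/-- the determinant by expansion along the first row -/
noncomputable def lapD : (n : ℕ) → (ℕ → ℕ → ℤ) → ℤ := fun n => Nat.rec (fun _ => 1)
  (fun m ih A => ((List.range (m + 1)).map fun j =>
    if A 0 j = 0 then 0 else (-1) ^ j * A 0 j * ih (fun a b => A (a + 1) (if b < j then b else b + 1))).sum) n
theorem lapD_eq : ∀ (n : ℕ) (A : ℕ → ℕ → ℤ),
    lapD n A = (Matrix.of fun a b : Fin n => A a.val b.val).det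
  | 0, A => by simp [lapD]
  | n + 1, A => by
    rw [Matrix.det_succ_row_zero, show lapD (n + 1) A = ((List.range (n + 1)).map fun j =>
      if A 0 j = 0 then 0 else (-1) ^ j * A 0 j *
        lapD n (fun a b => A (a + 1) (if b < j then b else b + 1))).sum from rfl,
      ← List.ofFn_getElem_eq_map, List.sum_ofFn]
    refine Fintype.sum_equiv (finCongr (List.length_range)) _ _ fun j => ?_
    simp only [List.getElem_range, finCongr_apply]
    split_ifs with h
    · simp [h]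
    · rw [lapD_eq n]
      congr 2
      ext a b
      simp only [Matrix.submatrix_apply, Matrix.of_apply, Fin.val_succ]
      congr 1
      rcases lt_or_ge b.val j.val with hb | hb
      · rw [if_pos hb, Fin.succAbove_of_castSucc_lt _ _ (by exact hb)]; rfl
      · rw [if_neg (not_lt.2 hb), Fin.succAbove_of_le_castSucc _ _ (by exact hb)]; rfl
theorem det_values7 : ∀ i : Fin 8, lapD 7 (fun a b => (if a = b then (i.val : ℤ) else 0) - n7 a b) =
    ((i.val : ℤ) ^ 4 - (i.val : ℤ) ^ 2 + 1) * ((i.val : ℤ) ^ 3 + 1) := by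
  decide +kernel

/-- the Cartan matrix of E₇, by rows of fundamental characters -/
noncomputable def a7 (l i : ℕ) : ℤ := cartF fastE7 i (fastE7.simples.get l)

/-- twice the inverse of the Cartan matrix -/
def b7 (i j : ℕ) : ℤ := (([[4, 4, 6, 8, 6, 4, 2], [4, 7, 8, 12, 9, 6, 3], [6, 8, 12, 16, 12, 8, 4], [8, 12, 16, 24, 18, 12, 6], [6, 9, 12, 18, 15, 10, 5], [4, 6, 8, 12, 10, 8, 4], [2, 3, 4, 6, 5, 4, 3]] : List (List ℤ)).getD i []).getD j 0

theorem a7_b7 : ∀ a c : Fin 7, (∑ b : Fin 7, a7 a.val b.val * b7 b.val c.val) = if a = c then 2 else 0 := by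
  decide +kernel

theorem b7_a7 : ∀ a c : Fin 7, (∑ b : Fin 7, b7 a.val b.val * a7 b.val c.val) = if a = c then 2 else 0 := by
  decide +kernel

/-- the Cartan matrix of E₈ -/
noncomputable def a8 (l i : ℕ) : ℤ := cartF fastE8 i (fastE8.simples.get l)

/-- the first seven rows of the inverse of the Cartan matrix of E₈ -/
def b8 (i j : ℕ) : ℤ := (([[4, 5, 7, 10, 8, 6, 4, 2], [5, 8, 10, 15, 12, 9, 6, 3], [7, 10, 14, 20, 16, 12, 8, 4], [10, 15, 20, 30, 24, 18, 12, 6], [8, 12, 16, 24, 20, 15, 10, 5], [6, 9, 12, 18, 15, 12, 8, 4], [4, 6, 8, 12, 10, 8, 6, 3]] : List (List ℤ)).getD i []).getD j 0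

/-- an entry of the matrix of the twisting element in type E₈ -/
noncomputable def n8 (j k : ℕ) : ℤ := (fastE8.rho.get (wordF fastE8 piW (fastE8.simples.get j))).getD k 0

/-- the matrix of the twisting element on the coordinates of the lifts -/
noncomputable def msc (i k : ℕ) : ℤ := ∑ a : Fin 8, b8 i a.val * ∑ b : Fin 8, n8 a.val b.val * a8 b.val k

theorem b8_a8 : ∀ i k : Fin 7, (∑ a : Fin 8, b8 i.val a.val * a8 a.val k.val) = if i = k then 1 else 0 := by
  decide +kernel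

theorem n7_a7 : ∀ i k : Fin 7,
    (∑ a : Fin 7, n7 i.val a.val * a7 a.val k.val) = ∑ a : Fin 7, a7 i.val a.val * msc a.val k.val := by
  decide +kernel

/-- the central element of the simply connected group -/
def zv (i : ℕ) : ℤ := ([0, 1, 0, 0, 1, 0, 1] : List ℤ).getD i 0

theorem zv_spec : zv 1 = 1 ∧ ∀ i : Fin 7, ((∑ k : Fin 7, a7 i.val k.val * zv k.val) % 2 = 0) ∧
    (zv i.val - ∑ k : Fin 7, msc i.val k.val * zv k.val) % 2 = 0 := by
  decide +kernel

/-- left inverses of the eigenvector equations modulo two -/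
def yTwo (μ i j : ℕ) : ℤ := ((([[[0, 1, 1, 1, 1, 1, 1, 0], [0, 1, 0, 1, 1, 1, 0, 0], [1, 0, 0, 0, 0, 0, 0, 0], [1, 0, 1, 1, 1, 1, 1, 0], [1, 1, 0, 1, 0, 0, 1, 0], [0, 0, 0, 0, 1, 0, 0, 0], [1, 1, 0, 0, 0, 1, 0, 0]], [[0, 0, 0, 0, 0, 0, 0, 1], [1, 0, 0, 1, 0, 1, 0, 0], [1, 0, 0, 0, 0, 0, 0, 1], [0, 1, 0, 1, 0, 1, 0, 0], [0, 0, 1, 0, 0, 1, 0, 1], [0, 0, 1, 0, 1, 1, 0, 1], [0, 1, 1, 1, 1, 1, 0, 0]]] : List (List (List ℤ))).getD μ []).getD i []).getD j 0

/-- left inverses of the eigenvector equations modulo three -/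
def yThree (μ i j : ℕ) : ℤ := ((([[[0, 1, 1, 1, 1, 1, 1, 0], [0, 2, 0, 2, 2, 2, 0, 0], [1, 0, 0, 0, 0, 0, 0, 0], [2, 0, 2, 2, 2, 2, 2, 0], [1, 1, 2, 0, 2, 2, 1, 0], [0, 0, 0, 0, 1, 0, 0, 0], [2, 2, 1, 1, 1, 2, 0, 0]], [[2, 1, 2, 2, 1, 0, 2, 0], [2, 1, 1, 0, 1, 2, 0, 0], [0, 1, 2, 2, 1, 0, 2, 0], [0, 0, 0, 2, 2, 2, 2, 0], [1, 0, 2, 0, 0, 1, 2, 0], [1, 0, 2, 0, 1, 1, 2, 0], [1, 1, 0, 0, 1, 2, 2, 0]], [[0, 0, 0, 0, 0, 0, 0, 1], [2, 2, 1, 0, 2, 0, 2, 0], [1, 0, 0, 0, 0, 0, 0, 2], [0, 2, 2, 0, 1, 0, 1, 0], [0, 0, 2, 1, 2, 0, 2, 1], [0, 0, 1, 2, 2, 0, 1, 2], [0, 1, 0, 0, 1, 0, 2, 0]]] : List (List (List ℤ))).getD μ []).getD i []).getD j 0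

theorem eigTwo : ∀ μ : Fin 2, ∀ i k : Fin 7,
    ((∑ a : Fin 7, yTwo μ.val i.val a.val * (n7 a.val k.val - if a = k then (μ.val : ℤ) else 0)) +
      yTwo μ.val i.val 7 * (if k.val = 0 then 1 else 0) - if i = k then 1 else 0) % 2 = 0 := by
  decide +kernel

theorem eigThree : ∀ μ : Fin 3, ∀ i k : Fin 7,
    ((∑ a : Fin 7, yThree μ.val i.val a.val * (n7 a.val k.val - if a = k then (μ.val : ℤ) else 0)) +
      yThree μ.val i.val 7 * (if k.val = 0 then 1 else 0) - if i = k then 1 else 0) % 3 = 0 := by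
  decide +kernel

end CfsgLib.Lie.CoxTorusE7
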