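import Cfsg.Agent.Lib.Lie.Chev.Univ.Center
import Cfsg.Agent.Lib.Lie.Chev.FieldMap
import Cfsg.Agent.Lib.Lie.Chev.CoxTorus.WMat

/-!
# Pairs of a matrix and a lift, for an embedding of root data
-/

set_option autoImplicit false

namespace CfsgLib.Lie.EmbPairs

open Cfsg.Lie CfsgLib.Lie.Chev CfsgLib.Lie.Chev.Univ
open scoped MatrixGroups

variable {D E : ChevalleyDatum} (CD : Full D) (CE : Full E) {e : ℕ → ℕ} (h : embChk D E e = true)
  (hP : ∀ i, CD.HasPair i)

include h in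
theorem rank_le : D.rank ≤ E.rank := (emb_spec h).1

/-- the index of a fundamental root in the larger type -/
def up (i : Fin D.rank) : Fin E.rank := Fin.castLE (rank_le h) i

/-- the root of the larger type -/
def upR (r : Fin D.nroots) : Fin E.nroots := ⟨e r.val, ((emb_spec h).2.2.1 r.val r.isLt).1⟩

theorem upR_simp (i : Fin D.rank) : upR h (CD.G.simp' i) = CE.G.simp' (up h i) := by
  refine Fin.ext ?_
  show e (CD.G.simp' i).val = _
  rw [CD.G.simp_val, CE.G.simp_val]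
  exact (emb_spec h).2.1 i.val i.isLt

theorem upR_negr (r : Fin D.nroots) : upR h (CD.G.negr r) = CE.G.negr (upR h r) := by
  refine Fin.ext ?_
  show e (CD.G.negr r).val = _
  rw [← CD.G.neg_val, ← CE.G.neg_val]
  exact ((emb_spec h).2.2.1 r.val r.isLt).2.1

variable {K : Type*} [Field K]

/-- extension by ones -/
def pad (D E : ChevalleyDatum) : (Fin D.rank → Kˣ) →* (Fin E.rank → Kˣ) where
  toFun c j := if hj : j.val < D.rank then c ⟨j.val, hj⟩ else 1
  map_one' := funext fun j => by simp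
  map_mul' a b := funext fun j => by by_cases hj : j.val < D.rank <;> simp [hj]

theorem pad_single (i : Fin D.rank) (t : Kˣ) :
    pad D E (Pi.mulSingle i t) = Pi.mulSingle (up h i) t := by
  funext j
  show (if hj : j.val < D.rank then (Pi.mulSingle i t : Fin D.rank → Kˣ) ⟨j.val, hj⟩ else 1) = _
  by_cases hj : j = up h i
  · subst hj
    rw [dif_pos (show (up h i).val < D.rank from i.isLt), Pi.mulSingle_eq_same]
    exact Pi.mulSingle_eq_same (M := fun _ : Fin D.rank => Kˣ) i t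
  · rw [Pi.mulSingle_eq_of_ne (M := fun _ : Fin E.rank => Kˣ) hj t]
    split
    · exact Pi.mulSingle_eq_of_ne (M := fun _ : Fin D.rank => Kˣ)
        (fun e => hj (Fin.ext (congrArg Fin.val e :))) t
    · rfl

/-- the two representations of the Steinberg group -/
noncomputable def pairHom : D.SteinbergGroup K →* GL D.Idx K × GL E.Idx K :=
  (CD.thetaSt (K := K)).prod ((CE.thetaSt (K := K)).comp (embHom h))

/-- the pairs of a matrix and a lift -/
noncomputable def pairs : Subgroup (GL D.Idx K × GL E.Idx K) := (pairHom CD CE h (K := K)).range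

theorem pairHom_gen (r : Fin D.nroots) (t : K) :
    pairHom CD CE h (D.stGen K r.val t) = (CD.G.xu r t, CE.G.xu (upR h r) t) := by
  refine Prod.ext (CD.thetaSt_stGen r t) ?_
  show CE.thetaSt (embHom h (D.stGen K r.val t)) = _
  rw [ChevalleyDatum.stGen, embHom_mk, embGen_stX r.isLt]
  exact CE.thetaSt_stGen (upR h r) t

theorem pairs_gen (r : Fin D.nroots) (t : K) :
    (CD.G.xu r t, CE.G.xu (upR h r) t) ∈ pairs CD CE h (K := K) := ⟨_, pairHom_gen CD CE h r t⟩

theorem pairs_eq_closure : pairs CD CE h (K := K) =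
    Subgroup.closure {g | ∃ r t, g = (CD.G.xu r t, CE.G.xu (upR h r) t)} := by
  refine le_antisymm ?_ ((Subgroup.closure_le _).2 ?_)
  · rw [pairs, MonoidHom.range_eq_map, ← PresentedGroup.closure_range_of, MonoidHom.map_closure]
    refine Subgroup.closure_mono ?_
    rintro _ ⟨_, ⟨⟨r, t⟩, rfl⟩, rfl⟩
    refine ⟨r, t, ?_⟩
    rw [← pairHom_gen, ChevalleyDatum.stGen, ChevalleyDatum.stX, dif_pos r.isLt]
    rfl
  · rintro _ ⟨r, t, rfl⟩
    exact pairs_gen CD CE h r t

theorem pairs_fmap {L : Type*} [Field L] (f : K →+* L) {g : GL D.Idx K × GL E.Idx K}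
    (hg : g ∈ pairs CD CE h (K := K)) : (fmap D f g.1, fmap E f g.2) ∈ pairs CD CE h (K := L) := by
  have h1 := Subgroup.mem_map_of_mem ((fmap D f).prodMap (fmap E f)) hg
  rw [pairs_eq_closure, MonoidHom.map_closure] at h1
  rw [pairs_eq_closure]
  refine (Subgroup.closure_mono ?_) h1
  rintro _ ⟨_, ⟨r, t, rfl⟩, rfl⟩
  exact ⟨r, f t, Prod.ext (CD.G.fmap_xu f r t) (CE.G.fmap_xu f (upR h r) t)⟩

theorem pairs_lift {g : GL D.Idx K} (hg : g ∈ D.group K) :
    ∃ g', (g, g') ∈ pairs CD CE h (K := K) := by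
  rw [← CD.thetaSt_range] at hg
  obtain ⟨x, rfl⟩ := hg
  exact ⟨_, x, rfl⟩

theorem pairs_snd_mem {g : GL D.Idx K × GL E.Idx K} (hg : g ∈ pairs CD CE h (K := K)) :
    g.2 ∈ E.group K := by
  obtain ⟨x, rfl⟩ := hg
  rw [← CE.thetaSt_range]
  exact ⟨_, rfl⟩

theorem pairs_nw : ∀ l : List (Fin D.rank),
    (CD.G.nw l, CE.G.nw (l.map (up h))) ∈ pairs CD CE h (K := K)
  | [] => one_mem _
  | i :: l => by
    rw [CD.G.nw_cons, List.map_cons, CE.G.nw_cons]
    show (CD.G.nU i, CE.G.nU (up h i)) * (CD.G.nw l, CE.G.nw (l.map (up h))) ∈ pairs CD CE h (K := K)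
    refine mul_mem ?_ (pairs_nw l)
    rw [Good.nU, Good.nU, ← upR_simp CD CE h, ← upR_negr CD CE h]
    exact mul_mem (mul_mem (pairs_gen CD CE h _ _) (pairs_gen CD CE h _ _)) (pairs_gen CD CE h _ _)

theorem pairs_twist (f : K →+* K) {c : GL D.Idx K} {c' : GL E.Idx K}
    (hc : (c, c') ∈ pairs CD CE h (K := K)) :
    (c⁻¹ * fmap D f c, c'⁻¹ * fmap E f c') ∈ pairs CD CE h (K := K) := by
  have h1 := mul_mem (inv_mem hc) (pairs_fmap CD CE h f hc)
  rw [Prod.inv_mk, Prod.mk_mul_mk] at h1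
  exact h1

include hP

theorem pairHom_torSt (d : Fin D.rank → Kˣ) :
    pairHom CD CE h (CD.torSt hP d) = (CD.G.torθ d, CE.G.torθ (pad D E d)) := by
  refine Prod.ext ?_ ?_
  · show CD.thetaSt (CD.torSt hP d) = CD.G.torθ d
    rw [← MonoidHom.comp_apply, CD.thetaSt_torSt hP]
  show CE.thetaSt (embHom h (CD.torSt hP d)) = CE.G.torθ (pad D E d)
  suffices hh : d ∈ ((CE.thetaSt (K := K)).comp ((embHom h).comp (CD.torSt hP))).eqLocus
      (CE.G.torθ.comp (pad D E)) from hh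
  rw [← Finset.univ_prod_mulSingle d]
  refine Subgroup.prod_mem _ fun i _ => ?_
  show CE.thetaSt (embHom h (CD.torSt hP (Pi.mulSingle i (d i)))) =
    CE.G.torθ (pad D E (Pi.mulSingle i (d i)))
  rw [pad_single h, CD.torSt_single, CD.toSt_hc, embHom_mk,
    embGen_stH h (CD.G.simp_val i ▸ (CD.G.simp' i).isLt),
    (emb_spec h).2.1 i.val i.isLt, CE.G.torθ_single,
    ← CE.theta_hc, ← CE.thetaSt_toSt, CE.toSt_hc]
  rfl

theorem pairs_torθ (d : Fin D.rank → Kˣ) :
    (CD.G.torθ d, CE.G.torθ (pad D E d)) ∈ pairs CD CE h (K := K) :=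
  ⟨_, pairHom_torSt CD CE h hP d⟩

theorem pairs_monomial {m : GL D.Idx K} (l : List (Fin D.rank)) (d : Fin D.rank → Kˣ)
    (hd : CD.G.torθ d = m * (CD.G.nw l)⁻¹) :
    (m, CE.G.torθ (pad D E d) * CE.G.nw (l.map (up h))) ∈ pairs CD CE h (K := K) := by
  have h1 := mul_mem (pairs_torθ CD CE h hP d) (pairs_nw CD CE h (K := K) l)
  rw [hd, Prod.mk_mul_mk, inv_mul_cancel_right] at h1
  exact h1

/-- two lifts differ by a central element of the torus -/
theorem pairs_ext {g : GL D.Idx K} {a b : GL E.Idx K} (h1 : (g, a) ∈ pairs CD CE h (K := K))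
    (h2 : (g, b) ∈ pairs CD CE h (K := K)) :
    ∃ κ ∈ (CD.G.torθ (K := K)).ker, b = a * CE.G.torθ (pad D E κ) ∧
      ∀ x : GL D.Idx K × GL E.Idx K, x ∈ pairs CD CE h (K := K) →
        x.2 * CE.G.torθ (pad D E κ) = CE.G.torθ (pad D E κ) * x.2 := by
  obtain ⟨x, hx⟩ := mul_mem (inv_mem h1) h2
  have hx1 : x ∈ (CD.thetaSt (K := K)).ker := (congrArg Prod.fst hx).trans (inv_mul_cancel g)
  have hxc : x ∈ Subgroup.center (D.SteinbergGroup K) := (CD.kerSt_eq_center (K := K) hP) ▸ hx1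
  rw [CD.kerSt_eq hP] at hx1
  obtain ⟨κ, hκ, rfl⟩ := hx1
  have hz : a⁻¹ * b = CE.G.torθ (pad D E κ) :=
    (congrArg Prod.snd ((pairHom_torSt CD CE h hP κ).symm.trans hx)).symm
  refine ⟨κ, hκ, by rw [← hz, mul_inv_cancel_left], ?_⟩
  rintro _ ⟨y, rfl⟩
  have := congrArg (fun w => (pairHom CD CE h w).2) (Subgroup.mem_center_iff.1 hxc y)
  simp only [map_mul, pairHom_torSt CD CE h hP, Prod.snd_mul] at this
  exact this

end CfsgLib.Lie.EmbPairs
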