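import Cfsg.Agent.Lib.Lie.Chev.CoxTorus.E7.Mats

/-!
# No root, and nearly no difference of two roots, vanishes on the torus of type E₇
-/

set_option autoImplicit false
set_option maxRecDepth 100000

namespace CfsgLib.Lie.CoxTorusE7

open Cfsg.Lie CfsgLib.Lie.Chev CfsgLib.Lie.CoxTorus CfsgLib.Lie.MonSys CfsgLib.Lie.Homocyclic
open CfsgLib.Lie.CoxTorusE6 Matrix

theorem hor_zero (q : ℤ) (x : ℕ → ℤ) : hor q x 0 = 0 := rfl

theorem hor_succ (q : ℤ) (x : ℕ → ℤ) (n : ℕ) : hor q x (n + 1) = hor q x n * q + x n := rfl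

theorem hor_eq_sum (q : ℤ) (x : ℕ → ℤ) :
    ∀ n, hor q x n = ∑ i ∈ Finset.range n, q ^ i * x (n - 1 - i)
  | 0 => by simp [hor_zero]
  | n + 1 => by
    rw [hor_succ, hor_eq_sum q x n, Finset.sum_range_succ', Finset.sum_mul]
    simp only [pow_zero, one_mul, Nat.add_sub_cancel, Nat.sub_zero]
    congr 1
    refine Finset.sum_congr rfl fun i hi => ?_
    rw [pow_succ, show n - (i + 1) = n - 1 - i by omega]
    ring

theorem hor_const_mul (q d : ℤ) (x : ℕ → ℤ) :
    ∀ n, hor q (fun i => d * x i) n = d * hor q x n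
  | 0 => by simp [hor_zero]
  | n + 1 => by rw [hor_succ, hor_succ, hor_const_mul q d x n]; ring

theorem hor_bound {q C : ℤ} (hq : 1 ≤ q) {x : ℕ → ℤ} :
    ∀ n, (∀ i < n, |x i| ≤ C) → |hor q x n| * (q - 1) ≤ C * (q ^ n - 1)
  | 0, _ => by simp [hor_zero]
  | n + 1, h => by
    have ih := hor_bound hq (x := x) n fun i hi => h i (by omega)
    have h1 : |hor q x (n + 1)| ≤ |hor q x n| * q + C := by
      rw [hor_succ]
      refine (abs_add_le _ _).trans (add_le_add (le_of_eq ?_) (h n (by omega)))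
      rw [abs_mul, abs_of_nonneg (show (0 : ℤ) ≤ q by omega)]
    calc |hor q x (n + 1)| * (q - 1) ≤ (|hor q x n| * q + C) * (q - 1) :=
          mul_le_mul_of_nonneg_right h1 (by omega)
      _ = q * (|hor q x n| * (q - 1)) + C * (q - 1) := by ring
      _ ≤ q * (C * (q ^ n - 1)) + C * (q - 1) := by
          have := mul_le_mul_of_nonneg_left ih (show (0 : ℤ) ≤ q by omega)
          linarith
      _ = C * (q ^ (n + 1) - 1) := by ring

theorem hor_eq_zero {q : ℤ} {x : ℕ → ℤ} :
    ∀ n, (∀ i < n, |x i| < q) → hor q x n = 0 → ∀ i < n, x i = 0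
  | 0, _, _ => fun i hi => absurd hi (Nat.not_lt_zero i)
  | n + 1, h, h0 => by
    rw [hor_succ] at h0
    have hx : x n = 0 :=
      Int.eq_zero_of_abs_lt_dvd ⟨-hor q x n, by linear_combination h0⟩ (h n (by omega))
    intro i hi
    rcases Nat.lt_succ_iff_lt_or_eq.1 hi with hi | rfl
    · have hq : 0 < q := (abs_nonneg (x n)).trans_lt (h n (by omega))
      rw [hx, add_zero, mul_eq_zero] at h0
      exact hor_eq_zero n (fun k hk => h k (by omega)) (h0.resolve_right hq.ne') i hi
    · exact hx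

theorem dq_le (q : ℕ) : dq q ≤ 2 := by unfold dq; split <;> norm_num

theorem dq_pos (q : ℕ) : 0 < dq q := by unfold dq; split <;> norm_num

/-- small digits and a divisible value force the first digit to vanish -/
theorem first_zero {q : ℕ} (hq : 18 ≤ q) {x : ℕ → ℤ} (hx : ∀ i, |x i| ≤ 8)
    (hd : (q : ℤ) ^ 12 - 1 ∣ (dq q : ℤ) * hor q x 12) : x 0 = 0 := by
  have hq' : (18 : ℤ) ≤ q := by exact_mod_cast hq
  have h2 : (dq q : ℤ) ≤ 2 := by exact_mod_cast dq_le q
  have hb : ∀ i, |(dq q : ℤ) * x i| ≤ 16 := fun i => by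
    rw [abs_mul, abs_of_nonneg (Int.natCast_nonneg _)]
    exact (mul_le_mul h2 (hx i) (abs_nonneg _) (by norm_num)).trans (by norm_num)
  rw [← hor_const_mul] at hd
  set y : ℕ → ℤ := fun i => (dq q : ℤ) * x i
  have hN : (0 : ℤ) < (q : ℤ) ^ 12 - 1 := sub_pos.2 (one_lt_pow₀ (by omega) (by norm_num))
  have h3 := hor_bound (q := (q : ℤ)) (C := 16) (by omega) (x := y) 12 fun i _ => hb i
  have h0 : hor (q : ℤ) y 12 = 0 := by
    refine Int.eq_zero_of_abs_lt_dvd hd ?_
    nlinarith
  have hy := hor_eq_zero (q := (q : ℤ)) (x := y) 12 (fun i _ => (hb i).trans_lt (by omega)) h0 0 (by norm_num)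
  exact (mul_eq_zero.1 hy).resolve_left (by exact_mod_cast (dq_pos q).ne')

theorem piI_lt (i : ℕ) (t : Fin chevE7.nroots) : piI i t.val < 126 :=
  pi_val i t ▸ nroots126 ▸ ((piSeven ^ i) t).isLt

theorem rc7_abs (i : ℕ) (t : Fin chevE7.nroots) (k : Fin chevE7.rank) :
    |rc7 (piI i t.val) k.val| ≤ 4 := by
  have := rc7_bound ⟨_, piI_lt i t⟩ ⟨k.val, rank7 ▸ k.isLt⟩
  rw [Int.abs_eq_natAbs]
  exact_mod_cast this

/-- no root vanishes -/
theorem root_nontriv {q : ℕ} (hq : 2 ≤ q) (t : Fin chevE7.nroots) :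
    ∃ k : Fin chevE7.rank,
      ¬ ((q : ℤ) ^ 12 - 1 ∣ (dq q : ℤ) * hor q (fun i => rc7 (piI i t.val) k.val) 12) := by
  by_cases h : q < 18
  · have := regB_ok ⟨q - 2, by omega⟩ ⟨t.val, nroots126 ▸ t.isLt⟩
    rw [regB, Bool.and_eq_true, List.any_eq_true] at this
    obtain ⟨⟨k, hk, hne⟩, -⟩ := this
    refine ⟨⟨k, rank7 ▸ List.mem_range.1 hk⟩, fun hd => ?_⟩
    simp only [bne_iff_ne, show q - 2 + 2 = q by omega] at hne
    exact hne (Int.emod_eq_zero_of_dvd hd)
  · by_contra hall
    push Not at hall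
    refine cE7.G.rho_ne_zero t (funext fun k => ?_)
    exact first_zero (by omega) (fun i => (rc7_abs i t k).trans (by norm_num)) (hall k)

/-- a difference of a root and a fundamental root vanishes in the exceptional cases only -/
theorem diff_nontriv {q : ℕ} (hq : 2 ≤ q) (t : Fin chevE7.nroots) (j : Fin chevE7.rank)
    (hall : ∀ k : Fin chevE7.rank, (q : ℤ) ^ 12 - 1 ∣ (dq q : ℤ) *
      hor q (fun i => rc7 (piI i t.val) k.val - rc7 (piI i (cE7.G.simp' j).val) k.val) 12) :
    t = cE7.G.simp' j ∨ excB q t.val j.val = true := by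
  by_cases h : q < 18
  · have := regB_ok ⟨q - 2, by omega⟩ ⟨t.val, nroots126 ▸ t.isLt⟩
    rw [regB, Bool.and_eq_true] at this
    have h2 := List.all_eq_true.1 this.2 j.val (List.mem_range.2 (rank7 ▸ j.isLt))
    simp only [show q - 2 + 2 = q by omega, Bool.or_eq_true, beq_iff_eq, List.any_eq_true,
      bne_iff_ne] at h2
    rcases h2 with (h2 | h2) | ⟨k, hk, hne⟩
    · exact Or.inl (Fin.ext (h2.trans (simp7_val j).symm))
    · exact Or.inr h2
    · refine absurd (Int.emod_eq_zero_of_dvd ?_) hne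
      rw [← simp7_val]
      exact hall ⟨k, rank7 ▸ List.mem_range.1 hk⟩
  · refine Or.inl (cE7.G.rho_injective (funext fun k => sub_eq_zero.1 ?_))
    refine first_zero (q := q) (by omega) (x := fun i => rc7 (piI i t.val) k.val -
      rc7 (piI i (cE7.G.simp' j).val) k.val) (fun i => ?_) (hall k)
    exact (abs_sub _ _).trans (by linarith [rc7_abs i t k, rc7_abs i (cE7.G.simp' j) k])

/-- an element permuting the fundamental roots into the exceptional ones does not commute -/
theorem alt_eq_simp {M : Matrix (Fin chevE7.rank) (Fin chevE7.rank) ℤ} (hc : M * matN = matN * M)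
    {t : Fin chevE7.rank → Fin chevE7.nroots} (hM : ∀ j k, M j k = rc7 (t j).val k.val) {q : ℕ}
    (ht : ∀ j, t j = cE7.G.simp' j ∨ excB q (t j).val j.val = true) (j : Fin chevE7.rank) :
    t j = cE7.G.simp' j := by
  classical
  by_contra hj
  set c : Fin 7 → Fin chevE7.rank := Fin.cast rank7.symm
  set f : Fin 7 → Bool := fun a => decide (t (c a) ≠ cE7.G.simp' (c a))
  have hexc : ∀ a : Fin 7, f a = true →
      (a.val = 1 ∧ (t (c a)).val = 6) ∨ (a.val = 3 ∧ (t (c a)).val = 53) ∨ (a.val = 6 ∧ (t (c a)).val = 101) := by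
    intro a ha
    have h := (ht (c a)).resolve_left (by simpa [f] using ha)
    simp [excB, c] at h
    tauto
  have hb : ∀ a : Fin 7, (if a.val = 1 then f 1 else if a.val = 3 then f 3 else
      if a.val = 6 then f 6 else false) = f a := by
    intro a
    fin_cases a <;> first | rfl | (simp; by_contra hh; rcases hexc _ (by simpa using hh) with h | h | h <;> simp at h)
  have hval : ∀ a : Fin 7, (t (c a)).val = altR f a := by
    intro a
    unfold altR
    cases h : f a
    · rw [if_neg (by simp)]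
      have : t (c a) = cE7.G.simp' (c a) := by simpa [f] using h
      rw [this, simp7_val]
      rfl
    · rw [if_pos rfl]
      rcases hexc a h with ⟨h1, h2⟩ | ⟨h1, h2⟩ | ⟨h1, h2⟩ <;> simp [h1, h2]
  have hne : (f 1 || f 3 || f 6) = true := by
    have hf : f (Fin.cast rank7 j) = true := by simpa [f, c] using hj
    rcases hexc _ hf with ⟨h1, -⟩ | ⟨h1, -⟩ | ⟨h1, -⟩
    · rw [show Fin.cast rank7 j = (1 : Fin 7) from Fin.ext h1] at hf; simp [hf]
    · rw [show Fin.cast rank7 j = (3 : Fin 7) from Fin.ext h1] at hf; simp [hf]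
    · rw [show Fin.cast rank7 j = (6 : Fin 7) from Fin.ext h1] at hf; simp [hf]
  obtain ⟨a, k, hak⟩ := alt_noncomm _ _ _ hne
  simp only [hb] at hak
  refine hak ?_
  have e := congrFun (congrFun hc (c a)) (c k)
  simp only [Matrix.mul_apply, hM, matN_apply] at e
  rw [sum7 fun i => rc7 (t (c a)).val i * n7 i (c k).val] at e
  rw [show (∑ i : Fin chevE7.rank, n7 (c a).val i.val * rc7 (t i).val (c k).val) =
      ∑ i : Fin 7, n7 a.val i.val * rc7 (t (c i)).val k.val from
    Fintype.sum_equiv (finCongr rank7) _ _ fun _ => rfl] at e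
  simp only [hval] at e
  exact e

end CfsgLib.Lie.CoxTorusE7
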