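import Cfsg.Agent.Lib.Lie.Chev.CoxTorus.E7.Regular
import Cfsg.Agent.Lib.Lie.Chev.CoxTorus.E7.Lift
import Cfsg.Agent.Lib.Lie.Chev.CoxTorus.E6.Fixed
import Cfsg.Agent.Lib.Lie.Chev.CoxTorus.E6.TorusBase

/-!
# The self-centralising cyclic torus of type E₇
-/

set_option autoImplicit false
set_option maxRecDepth 100000

namespace CfsgLib.Lie.CoxTorusE7

open Cfsg.Lie CfsgLib.Lie.Chev CfsgLib.Lie.CoxTorus CfsgLib.Lie.MonSys CfsgLib.Lie.Homocyclic
open CfsgLib.Lie.CoxTorusE6 Matrix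
open scoped MatrixGroups

/-- the order of the torus -/
def torOrd7 (q : ℕ) : ℕ := (q ^ 4 - q ^ 2 + 1) * (q ^ 3 + 1)

theorem torOrd7_cast (q : ℕ) :
    ((torOrd7 q : ℕ) : ℤ) = ((q : ℤ) ^ 4 - (q : ℤ) ^ 2 + 1) * ((q : ℤ) ^ 3 + 1) := by
  have h : q ^ 2 ≤ q ^ 4 := by
    rcases Nat.eq_zero_or_pos q with rfl | hq
    · simp
    · exact Nat.pow_le_pow_right hq (by norm_num)
  rw [torOrd7]
  push_cast [h]
  ring

theorem dq_eq_gcd {q : ℕ} (hq : 1 ≤ q) : dq q = Nat.gcd 2 (q - 1) := by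
  unfold dq
  split <;> rename_i h
  · exact (Nat.coprime_iff_gcd_eq_one.1 ((Nat.coprime_two_left (n := q - 1)).2 (Nat.odd_iff.2 (by omega)))).symm
  · exact (Nat.gcd_eq_left (by omega)).symm

/-- the eigenspaces modulo the primes -/
theorem eigen_le (ℓ : ℕ) (hℓ : ℓ.Prime) (μ : ZMod ℓ) :
    Nat.card {z : Fin chevE7.rank → ZMod ℓ // red (ZMod ℓ) matN *ᵥ z = μ • z} ≤ ℓ := by
  haveI := Fact.mk hℓ
  by_cases h12 : ℓ ∣ 12
  · have key : ∀ (Y : ℕ → ℕ → ℤ) (m : ℤ), (m : ZMod ℓ) = μ → (∀ i k : Fin 7,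
        (ℓ : ℤ) ∣ (∑ a : Fin 7, Y i.val a.val * (n7 a.val k.val - if a = k then m else 0)) +
          Y i.val 7 * (if k.val = 0 then 1 else 0) - if i = k then 1 else 0) →
        Nat.card {z : Fin chevE7.rank → ZMod ℓ // red (ZMod ℓ) matN *ᵥ z = μ • z} ≤ ℓ := by
      intro Y m hm hY
      set o : Fin chevE7.rank := ⟨0, rank7 ▸ (by norm_num)⟩
      refine le_trans (Nat.card_le_card_of_injective (fun z => z.1 o) fun z z' hzz => ?_)
        (le_of_eq (Nat.card_zmod ℓ))
      refine Subtype.ext (sub_eq_zero.1 ?_)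
      set w := z.1 - z'.1
      have hw : red (ZMod ℓ) matN *ᵥ w = μ • w := by
        rw [Matrix.mulVec_sub, z.2, z'.2, ← smul_sub]
      have hw0 : w o = 0 := sub_eq_zero.2 hzz
      set w' : Fin 7 → ZMod ℓ := fun k => w (Fin.cast rank7.symm k)
      have hrow : ∀ a : Fin 7, ∑ k : Fin 7, ((n7 a.val k.val : ℤ) : ZMod ℓ) * w' k = μ * w' a := by
        intro a
        have e := congrFun hw (Fin.cast rank7.symm a)
        simp only [Matrix.mulVec, dotProduct, red_apply, matN_apply, Pi.smul_apply, smul_eq_mul] at e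
        rw [← e]
        exact (Fintype.sum_equiv (finCongr rank7) _ _ fun _ => rfl).symm
      funext i
      set i' : Fin 7 := Fin.cast rank7 i
      have h0 : ∑ k : Fin 7, (((∑ a : Fin 7, Y i'.val a.val * (n7 a.val k.val - if a = k then m else 0)) +
          Y i'.val 7 * (if k.val = 0 then 1 else 0) - if i' = k then 1 else 0 : ℤ) : ZMod ℓ) * w' k = 0 :=
        Finset.sum_eq_zero fun k _ => by
          rw [(ZMod.intCast_zmod_eq_zero_iff_dvd _ ℓ).2 (hY i' k), zero_mul]
      push_cast at h0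
      simp only [sub_mul, add_mul, Finset.sum_sub_distrib, Finset.sum_add_distrib, Finset.sum_mul] at h0
      rw [Finset.sum_comm] at h0
      simp only [mul_assoc, ← Finset.mul_sum, sub_mul, Finset.sum_sub_distrib, hrow, ite_mul, one_mul,
        zero_mul, Finset.sum_ite_eq, Finset.mem_univ, if_true, hm, sub_self, mul_zero,
        Finset.sum_const_zero, zero_add] at h0
      have hs : ∑ k : Fin 7, (if k.val = 0 then w' k else 0) = 0 :=
        Finset.sum_eq_zero fun k _ => by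
          split <;> rename_i hk
          · exact (congrArg w (Fin.ext hk : Fin.cast rank7.symm k = o)).trans hw0
          · rfl
      rw [hs, mul_zero, zero_sub, neg_eq_zero] at h0
      exact h0
    have hμ : ((μ.val : ℤ) : ZMod ℓ) = μ := by rw [Int.cast_natCast, ZMod.natCast_zmod_val]
    have hlt := ZMod.val_lt μ
    have hℓ23 : ℓ = 2 ∨ ℓ = 3 := by
      rcases (Nat.Prime.dvd_mul hℓ).1 (show ℓ ∣ 2 ^ 2 * 3 from h12) with h | h
      · exact Or.inl ((Nat.prime_dvd_prime_iff_eq hℓ Nat.prime_two).1 (hℓ.dvd_of_dvd_pow h))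
      · exact Or.inr ((Nat.prime_dvd_prime_iff_eq hℓ Nat.prime_three).1 h)
    rcases hℓ23 with h2 | h3
    · refine key (yTwo μ.val) μ.val hμ fun i k => ?_
      have := eigTwo ⟨μ.val, h2 ▸ hlt⟩ i k
      rw [show (ℓ : ℤ) = 2 by rw [h2]; rfl]
      exact Int.dvd_of_emod_eq_zero this
    · refine key (yThree μ.val) μ.val hμ fun i k => ?_
      have := eigThree ⟨μ.val, h3 ▸ hlt⟩ i k
      rw [show (ℓ : ℤ) = 3 by rw [h3]; rfl]
      exact Int.dvd_of_emod_eq_zero this
  · exact card_eigen_le_of_dvd matN matN_charpoly_dvd ℓ h12 μ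

variable {F K : Type*} [Field F] [Fintype F] [Field K] [IsAlgClosed K]

/-- a monomial in a root vanishing on the regular element gives a divisibility -/
theorem triv_dvd {q : ℕ} (hq0 : ((q ^ 12 - 1 : ℕ) : K) ≠ 0)
    {u₀ : Fin chevE7.rank → Kˣ}
    (hgen : ∀ u ∈ (msys ((q : ℤ) • 1 - matN) : (Fin chevE7.rank → Kˣ) →* _).ker, ∃ z : ℤ, u₀ ^ z = u)
    (hqq : 2 ≤ q) {x : Fin chevE7.rank → ℤ} (h : cE7.G.chi (u₀ ^ dq q) x = 1)
    (m : Fin chevE7.rank) :
    (q : ℤ) ^ 12 - 1 ∣ (dq q : ℤ) * hor q (fun i => (x ᵥ* matN ^ i) m) 12 := by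
  classical
  set n := q ^ 12 - 1 with hn
  have hn' : (n : ℤ) = (q : ℤ) ^ 12 - 1 := by
    rw [hn, Nat.cast_sub (Nat.one_le_pow _ _ (by omega))]; norm_num
  haveI : NeZero (n : K) := ⟨hq0⟩
  obtain ⟨ζ, hζ⟩ := HasEnoughRootsOfUnity.exists_primitiveRoot K n
  have hnpos : 0 < n := Nat.pos_of_ne_zero fun e => hq0 (by rw [e, Nat.cast_zero])
  set z₀ : Kˣ := (hζ.isUnit hnpos.ne').unit
  have hz₀ : IsPrimitiveRoot z₀ n := IsPrimitiveRoot.coe_units_iff.1 hζ
  set A := geoMat 12 (q : ℤ) matN with hA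
  have hRA : ((q : ℤ) • 1 - matN) * A = (n : ℤ) • 1 := by rw [hA, sub_mul_geoMat _ matN_pow_twelve, hn']
  obtain ⟨z, hz⟩ := hgen _ (unit_zpow_mem_ker hRA hz₀.pow_eq_one m)
  have h2 : msys (Matrix.of fun _ : Fin 1 => x) (u₀ ^ dq q) = 1 := funext fun _ => h
  have h3 : msys (Matrix.of fun _ : Fin 1 => x) ((fun k => z₀ ^ A k m) ^ dq q) = 1 := by
    rw [← hz, ← zpow_natCast, ← _root_.zpow_mul, mul_comm, _root_.zpow_mul, zpow_natCast, map_zpow, h2,
      _root_.one_zpow]
  have h4 := congrFun h3 0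
  rw [map_pow, Pi.pow_apply, msys_apply, Pi.one_apply] at h4
  simp only [Matrix.of_apply, ← _root_.zpow_mul] at h4
  rw [← MonSys.zpow_sum, ← zpow_natCast, ← _root_.zpow_mul, hz₀.zpow_eq_one_iff_dvd, hn', mul_comm] at h4
  refine h4.trans (dvd_of_eq ?_)
  congr 1
  rw [hor_eq_sum]
  rw [Finset.sum_congr rfl fun k _ => mul_comm (A k m) (x k)]
  have e := congrFun (vecMul_geoMat (h := 12) (q : ℤ) matN x) m
  rw [Finset.sum_apply] at e
  exact e.trans (Finset.sum_congr rfl fun i _ => by rw [Pi.smul_apply, smul_eq_mul])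

/-- an even multiple of a unit vector is in the diagonal subgroup -/
theorem tor_mem7 (u : Fin chevE7.rank → Kˣ) :
    ∃ c', cE7.G.torθ c' = cE7.G.tor u := by
  have h : ∀ k, ∃ w : Kˣ, w ^ 2 = u k := fun k => by
    obtain ⟨w, hw⟩ := IsAlgClosed.exists_pow_nat_eq (u k : K) (show 0 < 2 by norm_num)
    have hw0 : w ≠ 0 := fun e => (u k).ne_zero (by rw [← hw, e]; simp)
    exact ⟨Units.mk0 w hw0, Units.ext (by simpa using hw)⟩
  choose w hw using h
  refine ⟨msys matB w, ?_⟩
  rw [torθ7, ← msys_mul, matA_matB, msys_smul, msys_one]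
  congr 1
  funext k
  rw [Pi.pow_apply, ← hw k]
  rfl

variable (ι : F →+* K) (σ : K →+* K)

theorem torus7 (hσ : ∀ a, σ a = a ^ Fintype.card F) (hσι : σ.comp ι = ι)
    (hfix : ∀ a, σ a = a → ∃ b, ι b = a) {c : GL chevE7.Idx K} (hc : c ∈ chevE7.group K)
    (hmon : c⁻¹ * fmap chevE7 σ c ∈ chevE7.monomialSubgroup K)
    (hπ : cE7.G.NPerm (c⁻¹ * fmap chevE7 σ c) piSeven) :
    ∃ H : Subgroup ↥(chevE7.group F), IsCyclic ↥H ∧
      Nat.card ↥H = torOrd7 (Fintype.card F) / Nat.gcd 2 (Fintype.card F - 1) ∧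
      Subgroup.centralizer (H : Set ↥(chevE7.group F)) = H := by
  classical
  set q := Fintype.card F with hq
  have h2q : 2 ≤ q := Fintype.one_lt_card
  have hqK : (q : K) = 0 := by
    rw [← map_natCast ι, hq, FiniteField.cast_card_eq_zero, map_zero]
  set n := q ^ 12 - 1 with hn
  have h1n : 1 ≤ q ^ 12 := Nat.one_le_pow _ _ (by omega)
  have hn' : (n : ℤ) = (q : ℤ) ^ 12 - 1 := by rw [hn, Nat.cast_sub h1n]; norm_num
  have hnK : ((n : ℕ) : K) ≠ 0 := by
    rw [hn, Nat.cast_sub h1n, Nat.cast_pow, hqK]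
    simp
  haveI : NeZero (n : K) := ⟨hnK⟩
  haveI : NeZero n := ⟨fun e => hnK (by rw [e, Nat.cast_zero])⟩
  have hroot : ∃ ζ : K, IsPrimitiveRoot ζ n := HasEnoughRootsOfUnity.exists_primitiveRoot K n
  have hσtor : ∀ u : Fin chevE7.rank → Kˣ,
      fmap chevE7 σ (cE7.G.tor u) = cE7.G.tor (u ^ q) := fun u => by
    rw [cE7.G.fmap_tor]
    exact congrArg _ (funext fun i => Units.ext (by simpa using hσ (u i : K)))
  set m := c⁻¹ * fmap chevE7 σ c with hm
  -- the solutions
  set Sol := (msys ((q : ℤ) • 1 - matN) : (Fin chevE7.rank → Kˣ) →* _).ker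
  have hR : geoMat 12 (q : ℤ) matN * ((q : ℤ) • 1 - matN) = (n : ℤ) • 1 := by
    rw [geoMat_mul_sub _ matN_pow_twelve, hn']
  have hR' : ((q : ℤ) • 1 - matN) * geoMat 12 (q : ℤ) matN = (n : ℤ) • 1 := by
    rw [sub_mul_geoMat _ matN_pow_twelve, hn']
  have hdet : ((q : ℤ) • 1 - matN).det = (torOrd7 q : ℤ) := by rw [matN_det, torOrd7_cast]
  have hdet0 : (torOrd7 q : ℤ) ≠ 0 := by
    have : 0 < torOrd7 q := Nat.mul_pos (Nat.succ_pos _) (Nat.succ_pos _)
    exact_mod_cast this.ne'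
  haveI : Finite Sol := finite_ker hR
  have hcardSol : Nat.card Sol = torOrd7 q := by
    rw [card_ker hroot hR hR' (hdet ▸ hdet0), hdet, Int.natAbs_natCast]
  haveI hcycSol : IsCyclic Sol := cyclic_ker eigen_le
  obtain ⟨u₀, hu₀⟩ := IsCyclic.exists_generator (α := Sol)
  have hgen : ∀ u ∈ Sol, ∃ z : ℤ, u₀.1 ^ z = u := fun u hu => by
    obtain ⟨z, hz⟩ := Subgroup.mem_zpowers_iff.1 (hu₀ ⟨u, hu⟩)
    exact ⟨z, congrArg Subtype.val hz⟩
  have hsys : ∀ u : Fin chevE7.rank → Kˣ,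
      u ∈ Sol ↔ m * cE7.G.tor (u ^ q) = cE7.G.tor u * m := by
    intro u
    rw [mem_ker_sub, zpow_natCast]
    constructor
    · intro hu
      exact conj_of_chi cE7 hmon hπ fun j => congrFun hu j
    · intro hu
      funext j
      have e := chi_of_conj cE7 hπ hu (cE7.G.simp' j)
      rw [cE7.G.rho_simp (i := j), cE7.G.chi_single] at e
      exact e
  -- the matrices over the small field
  let ψ : GL chevE7.Idx F →* GL chevE7.Idx K :=
    (MulAut.conj c⁻¹).toMonoidHom.comp (fmap chevE7 ι)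
  have hψ : ∀ g, ψ g = c⁻¹ * fmap chevE7 ι g * c := fun g => by simp [ψ]
  have hψinj : Function.Injective ψ := fun a b hab => by
    rw [hψ, hψ, mul_left_inj, mul_right_inj] at hab
    exact fmap_injective ι hab
  have hψσ : ∀ g, fmap chevE7 σ (ψ g) = m⁻¹ * ψ g * m := fun g => by
    rw [hψ, map_mul, map_mul, map_inv, fmap_fmap, hσι, hm]
    group
  have hentry : ∀ y : GL chevE7.Idx K, fmap chevE7 σ y = y → ∃ g, fmap chevE7 ι g = y := by
    intro y hy
    have hyi : fmap chevE7 σ y⁻¹ = y⁻¹ := by rw [map_inv, hy]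
    have ent : ∀ y' : GL chevE7.Idx K, fmap chevE7 σ y' = y' →
        ∃ M : Matrix chevE7.Idx chevE7.Idx F, M.map ι = (y' : Matrix _ _ K) := fun y' h => by
      choose M hM using fun i j => hfix ((y' : Matrix chevE7.Idx chevE7.Idx K) i j)
        (congrFun (congrFun (congrArg (fun a : GL chevE7.Idx K => (a : Matrix _ _ K)) h) i) j)
      exact ⟨Matrix.of M, Matrix.ext hM⟩
    obtain ⟨M, hM⟩ := ent y hy
    obtain ⟨M', hM'⟩ := ent y⁻¹ hyi
    have e : ∀ A B : Matrix chevE7.Idx chevE7.Idx F, A.map ι * B.map ι = 1 → A * B = 1 :=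
      fun A B h => Matrix.map_injective ι.injective (by
        show (A * B).map ι = (1 : Matrix chevE7.Idx chevE7.Idx F).map ι
        rw [Matrix.map_mul, h, Matrix.map_one _ (map_zero ι) (map_one ι)])
    exact ⟨⟨M, M', e _ _ (by rw [hM, hM', y.mul_inv]), e _ _ (by rw [hM, hM', y.inv_mul])⟩,
      Units.ext hM⟩
  have hex : ∀ u : Sol, ∃ g, ψ g = cE7.G.tor u.1 := fun u => by
    have hyσ : fmap chevE7 σ (c * cE7.G.tor u.1 * c⁻¹) = c * cE7.G.tor u.1 * c⁻¹ := by
      rw [map_mul, map_mul, map_inv, hσtor,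
        show fmap chevE7 σ c = c * m by rw [hm, mul_inv_cancel_left],
        _root_.mul_inv_rev, mul_assoc c m, (hsys u.1).1 u.2]
      group
    obtain ⟨g, hg⟩ := hentry _ hyσ
    exact ⟨g, by rw [hψ, hg]; group⟩
  choose gF hgF using hex
  let φ : Sol →* GL chevE7.Idx F := MonoidHom.mk' gF fun a b => hψinj (by
    rw [map_mul, hgF, hgF, hgF, Subgroup.coe_mul, map_mul])
  have hφψ : ∀ u, ψ (φ u) = cE7.G.tor u.1 := hgF
  have hφinj : Function.Injective φ := fun a b hab => by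
    have e := congrArg ψ hab
    rw [hφψ, hφψ] at e
    exact Subtype.ext (tor_inj cE7 e)
  have hdiag : ∀ u : Fin chevE7.rank → Kˣ, cE7.G.tor u ∈ chevE7.diagonalSubgroup K := fun u => by
    obtain ⟨c', hc'⟩ := tor_mem7 u
    rw [← hc', cE7.G.diagonal_eq_range]
    exact MonoidHom.mem_range.2 ⟨c', rfl⟩
  have hφfix : φ.range ≤ fixedGrp chevE7 ι := by
    rintro _ ⟨u, rfl⟩
    show fmap chevE7 ι (φ u) ∈ chevE7.group K
    have e := hφψ u
    rw [hψ, mul_assoc, inv_mul_eq_iff_eq_mul, ← eq_mul_inv_iff_mul_eq] at e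
    rw [e]
    exact mul_mem (mul_mem hc (cE7.G.diagonal_le_group (hdiag _))) (inv_mem hc)
  -- the part in the Chevalley group
  set T := (chevE7.group F).comap φ with hT
  have hidx_le : T.index ≤ Nat.gcd 2 (q - 1) := by
    have h := relIndex_le cE7 (T := kerE7) kerE7_ok σ ι hσι hfix hφfix
    rwa [show kerE7.k = 1 from rfl, pow_one, show kerE7.d = 2 from rfl, ← Subgroup.index_comap, ← hT] at h
  have hne : T.index ≠ 0 := Subgroup.index_ne_zero_of_finite
  have hidx : T.index = Nat.gcd 2 (q - 1) := by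
    rcases (Nat.dvd_prime Nat.prime_two).1 (Nat.gcd_dvd_left 2 (q - 1)) with h1 | h2
    · omega
    rw [h2] at hidx_le ⊢
    by_contra hne2
    have htop : T = ⊤ := Subgroup.index_eq_one.1 (by omega)
    have hodd : Odd q := by
      have := Nat.gcd_dvd_right 2 (q - 1)
      rw [h2] at this
      exact Nat.odd_iff.2 (by omega)
    -- the lifted system
    set R₂ := (q : ℤ) • (1 : Matrix (Fin chevE7.rank) (Fin chevE7.rank) ℤ) - matS
    set L := (msys R₂ : (Fin chevE7.rank → Kˣ) →* _).ker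
    have hRS : geoMat 12 (q : ℤ) matS * R₂ = (n : ℤ) • 1 := by
      rw [geoMat_mul_sub _ matS_pow_twelve, hn']
    haveI : Finite L := finite_ker hRS
    have hcardL : Nat.card L = Nat.card Sol := by
      rw [hcardSol, card_ker hroot hRS (by rw [sub_mul_geoMat _ matS_pow_twelve, hn'])
        (by rw [matS_det, hdet]; exact hdet0), matS_det, hdet, Int.natAbs_natCast]
    let θ : L → Sol := fun e => ⟨msys matA e.1, by
      rw [MonoidHom.mem_ker, ← msys_mul, sub_matA, msys_mul, MonoidHom.mem_ker.1 e.2, map_one]⟩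
    have hsurj : Function.Surjective θ := fun u => by
      obtain ⟨c', hc'⟩ := tor_mem7 u.1
      obtain ⟨e, he, hes⟩ := fixed_lift ι σ hσ hσι hc hmon hπ (g := φ u)
        (show u ∈ T from htop ▸ Subgroup.mem_top u) (c' := c') (by rw [← hψ, hφψ, hc'])
      refine ⟨⟨e, (mem_ker_sub _ _).2 (by rw [hes, zpow_natCast])⟩, Subtype.ext (tor_inj cE7 ?_)⟩
      show cE7.G.tor (msys matA e) = _
      rw [← torθ7, he, hc']
    have hinj : Function.Injective θ :=
      ((Nat.bijective_iff_surjective_and_card θ).2 ⟨hsurj, hcardL⟩).1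
    have h2K : (-1 : Kˣ) ≠ 1 := fun e => by
      have h2 : (2 : K) = 0 := by
        have := congrArg Units.val e
        simp only [Units.val_neg, Units.val_one] at this
        linear_combination -this
      obtain ⟨k, hk⟩ := hodd
      rw [hk] at hqK
      push_cast at hqK
      rw [h2, zero_mul, zero_add] at hqK
      exact one_ne_zero hqK
    set κ : Fin chevE7.rank → Kˣ := fun i => (-1) ^ zv i.val
    have hκA : msys matA κ = 1 := funext fun i => by
      rw [msys_apply, prod_zpow_zpow, Pi.one_apply]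
      refine Even.neg_one_zpow (even_iff_two_dvd.2 (Int.dvd_of_emod_eq_zero ?_))
      show (∑ k : Fin chevE7.rank, a7 i.val k.val * zv k.val) % 2 = 0
      rw [sum7 fun k => a7 i.val k * zv k]
      exact (zv_spec.2 ⟨i.val, rank7 ▸ i.isLt⟩).1
    have hκL : κ ∈ L := by
      refine (mem_ker_sub _ _).2 (funext fun i => ?_)
      rw [msys_apply, prod_zpow_zpow, Pi.pow_apply, zpow_natCast,
        show κ i ^ q = (-1 : Kˣ) ^ (zv i.val * (q : ℤ)) by rw [_root_.zpow_mul, zpow_natCast],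
        ← mul_inv_eq_one, ← _root_.zpow_sub]
      refine Even.neg_one_zpow (even_iff_two_dvd.2 ?_)
      have h1 : (2 : ℤ) ∣ zv i.val - ∑ k : Fin 7, msc i.val k.val * zv k.val :=
        Int.dvd_of_emod_eq_zero (zv_spec.2 ⟨i.val, rank7 ▸ i.isLt⟩).2
      obtain ⟨k, hk⟩ := hodd
      have h3 : (matS *ᵥ fun j => zv j.val) i = ∑ k : Fin 7, msc i.val k.val * zv k.val := by
        show ∑ k, matS i k * zv k.val = _
        simp only [matS_apply]
        exact sum7 fun k => msc i.val k * zv k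
      rw [h3, hk]
      obtain ⟨w, hw⟩ := h1
      exact ⟨-w - zv i.val * k, by push_cast; linear_combination -hw⟩
    have h0 : (⟨κ, hκL⟩ : L) = 1 := hinj (Subtype.ext (hκA.trans (map_one _).symm))
    have := congrFun (congrArg Subtype.val h0) ⟨1, rank7 ▸ (by norm_num)⟩
    change (-1 : Kˣ) ^ zv 1 = 1 at this
    rw [zv_spec.1, _root_.zpow_one] at this
    exact h2K this
  -- the regular element
  have hdq : dq q = Nat.gcd 2 (q - 1) := dq_eq_gcd (by omega)
  have hy₀T : u₀ ^ dq q ∈ T := by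
    rw [hdq, ← hidx]
    exact Subgroup.pow_index_mem T u₀
  set v := u₀.1 ^ dq q with hv
  have hreg : Reg cE7 v := fun s hs => by
    obtain ⟨k, hk⟩ := root_nontriv h2q s
    refine hk ?_
    simpa only [rho_pi] using triv_dvd hnK hgen h2q hs k
  -- the subgroup
  set H := φ.range.subgroupOf (chevE7.group F) with hH
  have hmemH : ∀ g : ↥(chevE7.group F), g ∈ H ↔ ∃ u, φ u = g := fun g => Iff.rfl
  let e : T → H := fun u => ⟨⟨φ u.1, u.2⟩, u.1, rfl⟩
  have he : Function.Bijective e := by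
    refine ⟨fun a b hab => Subtype.ext (hφinj (congrArg (fun t : H => (t.1 : GL chevE7.Idx F)) hab)), ?_⟩
    rintro ⟨g, u, hu⟩
    exact ⟨⟨u, show φ u ∈ chevE7.group F from hu ▸ g.2⟩, Subtype.ext (Subtype.ext hu)⟩
  refine ⟨H, ?_, ?_, le_antisymm ?_ ?_⟩
  · exact isCyclic_of_surjective
      ({ toFun := e, map_one' := Subtype.ext (Subtype.ext (map_one φ)),
         map_mul' := fun a b => Subtype.ext (Subtype.ext (map_mul φ a.1 b.1)) } : T →* H) he.2
  · rw [← Nat.card_eq_of_bijective e he, ← hcardSol, ← T.card_mul_index, hidx,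
      Nat.mul_div_cancel _ (Nat.gcd_pos_of_pos_left _ (by norm_num))]
  · intro g hg
    set y : ↥(chevE7.group F) := ⟨φ (u₀ ^ dq q), hy₀T⟩
    have hcomm : (y * g : ↥(chevE7.group F)) = g * y :=
      Subgroup.mem_centralizer_iff.1 hg y ⟨_, rfl⟩
    set G := ψ (g : GL chevE7.Idx F)
    have hG : G ∈ chevE7.group K := by
      show ψ _ ∈ _
      rw [hψ]
      exact mul_mem (mul_mem (inv_mem hc) (cE7.G.fmap_mem_group ι g.2)) hc
    have h1 : G * cE7.G.tor v = cE7.G.tor v * G := by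
      have e1 := congrArg (fun a : ↥(chevE7.group F) => ψ a.1) hcomm
      simp only [Subgroup.coe_mul, map_mul] at e1
      rw [show ψ y.1 = cE7.G.tor v from (hφψ _).trans (by rw [hv]; rfl)] at e1
      exact e1.symm
    obtain ⟨hGm, π', hπ'⟩ := twist_reg cE7 hG (hdiag v) (hdiag v) hreg hreg h1
    have hπW' := mem_Wg_of_monomial cE7 hGm hπ'
    have h2 := nPerm_fmap cE7 σ hGm hπ'
    rw [hψσ] at h2
    have h3 := Good.NPerm.unique cE7.G
      (Good.NPerm.mul cE7.G (Good.NPerm.mul cE7.G (Good.NPerm.inv cE7.G hπ) hπ') hπ) h2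
    rw [mul_assoc, inv_mul_eq_iff_eq_mul] at h3
    have hM : wm cE7 π' * matN = matN * wm cE7 π' := by
      rw [matN, ← wm_mul cE7 piSeven_mem, ← wm_mul cE7 hπW', h3]
    have ht : ∀ j, π' (cE7.G.simp' j) = cE7.G.simp' j ∨
        excB q (π' (cE7.G.simp' j)).val j.val = true := by
      intro j
      refine diff_nontriv h2q _ j fun k => ?_
      have hx : cE7.G.chi v (cE7.G.rho (π' (cE7.G.simp' j)) - cE7.G.rho (cE7.G.simp' j)) = 1 := by
        have e1 := chi_of_conj cE7 hπ' h1 (cE7.G.simp' j)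
        simp only [Good.chi, Pi.sub_apply, _root_.zpow_sub, Finset.prod_mul_distrib, Finset.prod_inv_distrib]
          at e1 ⊢
        rw [e1, mul_inv_cancel]
      have e2 := triv_dvd hnK hgen h2q hx k
      simp only [Matrix.sub_vecMul, Pi.sub_apply, rho_pi] at e2
      exact e2
    have h4 : ∀ j, π' (cE7.G.simp' j) = cE7.G.simp' j :=
      alt_eq_simp hM (t := fun j => π' (cE7.G.simp' j)) (fun _ _ => rfl) ht
    have h5 : π' = 1 := eq_one_of_wm cE7 hπW' (by
      rw [← wm_one cE7]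
      ext j k
      simp only [wm, Matrix.of_apply, Equiv.Perm.one_apply, h4])
    obtain ⟨u, hu⟩ := cE7.G.exists_tor (cE7.G.mem_H_of_nPerm_one hGm (h5 ▸ hπ'))
    have huS : u ∈ Sol := by
      refine (hsys u).2 ?_
      have e1 := hψσ (g : GL chevE7.Idx F)
      rw [show ψ (g : GL chevE7.Idx F) = cE7.G.tor u from hu, hσtor] at e1
      rw [e1]
      group
    exact (hmemH g).2 ⟨⟨u, huS⟩, hψinj ((hφψ _).trans hu.symm)⟩
  · intro g hg
    refine Subgroup.mem_centralizer_iff.2 fun b hb => Subtype.ext ?_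
    obtain ⟨a₁, h₁⟩ := hg
    obtain ⟨a₂, h₂⟩ := hb
    show (b : GL chevE7.Idx F) * g = g * b
    rw [← show φ a₁ = (g : GL chevE7.Idx F) from h₁, ← show φ a₂ = (b : GL chevE7.Idx F) from h₂,
      ← map_mul, ← map_mul, mul_comm]

/-- E₇(q) has a self-centralising cyclic subgroup of order `(q⁴ - q² + 1)(q³ + 1) / gcd(2, q - 1)` -/
theorem coxE7 {F : Type*} [Field F] [Fintype F] :
    ∃ H : Subgroup ↥(chevE7.group F), IsCyclic ↥H ∧
      Nat.card ↥H = torOrd7 (Fintype.card F) / Nat.gcd 2 (Fintype.card F - 1) ∧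
      Subgroup.centralizer (H : Set ↥(chevE7.group F)) = H := by
  obtain ⟨c, hc, hmon, hperm⟩ := lang_seven (F := F)
  refine torus7 (algebraMap F (AlgebraicClosure F)) _ (fun a => rfl) ?_ ?_ hc hmon hperm
  · exact RingHom.ext fun a => (FiniteField.frobeniusAlgHom F (AlgebraicClosure F)).commutes a
  · intro a ha
    by_contra hne
    push Not at hne
    set q := Fintype.card F
    have h0 : (Polynomial.X ^ q - Polynomial.X : Polynomial (AlgebraicClosure F)) = 0 := by
      refine Polynomial.eq_zero_of_natDegree_lt_card_of_eval_eq_zero _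
        (f := fun o : Option F => o.elim a (algebraMap F (AlgebraicClosure F))) ?_ (fun o => ?_) ?_
      · rintro (_ | x) (_ | y) h
        · rfl
        · exact absurd h.symm (hne y)
        · exact absurd h (hne x)
        · exact congrArg some ((algebraMap F (AlgebraicClosure F)).injective h)
      · cases o with
        | none =>
          have : a ^ q = a := ha
          simp [this]
        | some x => simp [← map_pow, FiniteField.pow_card, q]
      · rw [FiniteField.X_pow_card_sub_X_natDegree_eq _ Fintype.one_lt_card, Fintype.card_option]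
        omega
    exact FiniteField.X_pow_card_sub_X_ne_zero _ Fintype.one_lt_card h0

end CfsgLib.Lie.CoxTorusE7
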