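import Cfsg.Agent.Lib.Lie.Chev.CommTables
import Cfsg.Agent.Lib.Lie.Chev.CoxTorus.E6.LangSix
import Cfsg.Agent.Lib.Lie.Chev.CoxTorus.E7.Emb
import Cfsg.Agent.Lib.Lie.Chev.CoxTorus.E7.Pairs
import Mathlib.FieldTheory.IsAlgClosed.Basic

/-!
# An element of E₇ twisted under the Frobenius map by an element with polynomial `Φ₁₂Φ₆Φ₂`

The element of E₆ twisted by its Coxeter element is corrected by one element of a product of three
commuting rank one subgroups that are permuted cyclically.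
-/

set_option autoImplicit false
set_option maxRecDepth 100000

namespace CfsgLib.Lie.CoxTorusE7

open Cfsg.Lie CfsgLib.Lie.Chev CfsgLib.Lie.CoxTorus CfsgLib.Lie.Homocyclic CfsgLib.Lie.CoxTorusE6
open CfsgLib.Lie.EmbPairs
open scoped MatrixGroups

theorem rank7 : chevE7.rank = 7 := by decide +kernel

theorem nroots126 : chevE7.nroots = 126 := by decide +kernel

/-- a list of indices as a word -/
noncomputable def word7 (l : List ℕ) : List (Fin chevE7.rank) :=
  l.filterMap fun i => if h : i < chevE7.rank then some ⟨i, h⟩ else none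

theorem word7_val : ∀ l : List ℕ, (∀ i ∈ l, i < 7) → (word7 l).map Fin.val = l := by
  intro l hl
  induction l with
  | nil => rfl
  | cons i l ih =>
    have hi : i < chevE7.rank := by rw [rank7]; exact hl i (List.mem_cons_self ..)
    rw [word7, List.filterMap_cons_some (dif_pos hi), List.map_cons]
    exact congrArg (i :: ·) (ih fun j hj => hl j (List.mem_cons_of_mem _ hj))

theorem pw7_val {l : List ℕ} (hl : ∀ i ∈ l, i < 7) (r : Fin chevE7.nroots) :
    (cE7.G.pw (word7 l) r).val = wordF fastE7 l r.val := by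
  rw [cE7.G.pw_val checksE7, word7_val l hl]

/-- the word to the root at which the correction is made -/
def lW : List ℕ := [6, 5, 3, 4, 2, 3, 1]

/-- the word of the twisting element -/
def piW : List ℕ := lW ++ [1] ++ lW.reverse ++ coxW

theorem lW_lt : ∀ i ∈ lW, i < 7 := by decide

theorem coxW_lt : ∀ i ∈ coxW, i < 7 := by decide

theorem piW_lt : ∀ i ∈ piW, i < 7 := by decide

/-- the twisting element of the Weyl group -/
noncomputable def piSeven : Equiv.Perm (Fin chevE7.nroots) := cE7.G.pw (word7 piW)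

/-- the first corrected root -/
noncomputable def rootA : Fin chevE7.nroots := ⟨36, by rw [nroots126]; norm_num⟩

/-- the root after it -/
noncomputable def rootB : Fin chevE7.nroots := ⟨wordF fastE7 coxW 36, by decide +kernel⟩

/-- the third root -/
noncomputable def rootC : Fin chevE7.nroots := ⟨wordF fastE7 coxW (wordF fastE7 coxW 36), by decide +kernel⟩

theorem cycleA : wordF fastE7 coxW (wordF fastE7 coxW (wordF fastE7 coxW 36)) = 36 := by
  decide +kernel

theorem rootA_eq : cE7.G.pw (word7 lW) (cE7.G.simp' ⟨1, by rw [rank7]; norm_num⟩) = rootA := by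
  refine Fin.ext ?_
  rw [pw7_val lW_lt, ← cE7.G.simples_eq' checksE7]
  show wordF fastE7 lW (fastE7.simples.get 1) = 36
  decide +kernel

theorem no_comm : ∀ a ∈ [36, fastE7.negs.get 36],
    ∀ b ∈ [wordF fastE7 coxW 36, fastE7.negs.get (wordF fastE7 coxW 36),
      wordF fastE7 coxW (wordF fastE7 coxW 36),
      fastE7.negs.get (wordF fastE7 coxW (wordF fastE7 coxW 36))],
      b ≠ a ∧ b ≠ fastE7.negs.get a ∧ (commTermsF chevE7 fastE7 a b).length = 0 := by
  decide +kernel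

theorem no_comm' : ∀ a ∈ [wordF fastE7 coxW 36, fastE7.negs.get (wordF fastE7 coxW 36)],
    ∀ b ∈ [wordF fastE7 coxW (wordF fastE7 coxW 36),
      fastE7.negs.get (wordF fastE7 coxW (wordF fastE7 coxW 36))],
      b ≠ a ∧ b ≠ fastE7.negs.get a ∧ (commTermsF chevE7 fastE7 a b).length = 0 := by
  decide +kernel

section

variable {K : Type*} [Field K]

theorem negs7 (r : Fin chevE7.nroots) : fastE7.negs.get r.val = (cE7.G.negr r).val :=
  ((rowsOK checksE7.rows).negs r.val r.isLt).trans (cE7.G.negr_val r).symm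

theorem commute_of_noterms {r s : Fin chevE7.nroots} (hne : s.val ≠ r.val)
    (hn : s.val ≠ fastE7.negs.get r.val)
    (h : (commTermsF chevE7 fastE7 r.val s.val).length = 0) (t u : K) :
    Commute (cE7.G.xu r t) (cE7.G.xu s u) := by
  have hterms : chevE7.commTerms r.val s.val = [] := by
    rw [← commTermsF_eq (rowsOK checksE7.rows) cE7.keys r.isLt s.isLt]
    exact List.eq_nil_of_length_eq_zero h
  have hcm := cE7.commAt r s (fun e => hne (congrArg Fin.val e))
    (fun e => hn (by rw [negs7, e])) t u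
  unfold CommAt at hcm
  rw [cwR, hterms, List.map_nil, wordR, List.map_nil, List.prod_nil, mul_one] at hcm
  exact Units.ext hcm.symm

theorem nw_conj_nE : ∀ (l : List (Fin chevE7.rank)) (r : Fin chevE7.nroots) (t : K),
    ∃ c : Kˣ, cE7.G.nw l * cE7.G.nE r ((c : K) * t) * (cE7.G.nw l)⁻¹ = cE7.G.nE (cE7.G.pw l r) t
  | [], r, t => ⟨1, by simp [Good.nw_nil, Good.pw_nil]⟩
  | i :: l, r, t => by
    have he2 : (cE7.G.eta i (cE7.G.pw l r) : K) * (cE7.G.eta i (cE7.G.pw l r) : K) = 1 := by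
      rcases cE7.G.eta_unit i (cE7.G.pw l r) with e | e <;> rw [e] <;> norm_num
    obtain ⟨c, hc⟩ := nw_conj_nE l r ((cE7.G.eta i (cE7.G.pw l r) : K) * t)
    refine ⟨c * Units.mk0 _ (left_ne_zero_of_mul_eq_one he2), ?_⟩
    rw [cE7.G.nw_cons, mul_inv_rev, Units.val_mul, Units.val_mk0, mul_assoc (c : K)]
    calc cE7.G.nU i * cE7.G.nw l * cE7.G.nE r ((c : K) * ((cE7.G.eta i (cE7.G.pw l r) : K) * t)) *
          ((cE7.G.nw l)⁻¹ * (cE7.G.nU i)⁻¹)
        = cE7.G.nU i * (cE7.G.nw l * cE7.G.nE r ((c : K) * ((cE7.G.eta i (cE7.G.pw l r) : K) * t)) *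
            (cE7.G.nw l)⁻¹) * (cE7.G.nU i)⁻¹ := by group
      _ = _ := by
        rw [hc, cE7.G.nU_nE, mul_inv_cancel_right, cE7.G.pw_cons, Equiv.Perm.mul_apply,
          Good.sP_apply, ← mul_assoc, he2, one_mul]

theorem nE_rootA {t : K} (ht : t ≠ 0) :
    cE7.G.nE rootA t ∈ chevE7.monomialSubgroup K ∧
      cE7.G.NPerm (cE7.G.nE rootA t) (cE7.G.pw (word7 (lW ++ [1] ++ lW.reverse))) := by
  set j : Fin chevE7.rank := ⟨1, by rw [rank7]; norm_num⟩
  obtain ⟨c, hc⟩ := nw_conj_nE (word7 lW) (cE7.G.simp' j) t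
  rw [rootA_eq] at hc
  rw [← hc]
  have hct : (c : K) * t ≠ 0 := mul_ne_zero c.ne_zero ht
  have hw : word7 (lW ++ [1] ++ lW.reverse) = word7 lW ++ [j] ++ (word7 lW).reverse := by
    refine List.map_injective_iff.2 Fin.val_injective ?_
    rw [word7_val _ (by decide), List.map_append, List.map_append, List.map_reverse,
      word7_val _ lW_lt]
    rfl
  refine ⟨?_, ?_⟩
  · refine mul_mem (mul_mem (cE7.G.nw_mem_monomial _) ?_) (inv_mem (cE7.G.nw_mem_monomial _))
    rw [show (c : K) * t = ((Units.mk0 _ hct : Kˣ) : K) from rfl, cE7.G.nE_simp]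
    exact mul_mem (cE7.G.H_le_monomial (cE7.G.hd_mem_H _ _)) (cE7.G.nU_mem_monomial _)
  · rw [hw, cE7.G.pw_append, cE7.G.pw_append, cE7.G.pw_single, cE7.G.pw_reverse]
    exact Good.NPerm.mul cE7.G (Good.NPerm.mul cE7.G (cE7.G.nPerm_nw _) (cE7.nE_nPerm j hct))
      (Good.NPerm.inv cE7.G (cE7.G.nPerm_nw _))

variable [IsAlgClosed K]

/-- an element of the rank one subgroup moved to a monomial one by a twisted power map -/
theorem exists_sl2_twist {Q : ℕ} (hQ : 2 ≤ Q) (r r' : Fin chevE7.nroots)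
    (Ψ : GL chevE7.Idx K →* GL chevE7.Idx K) (A B : Kˣ)
    (hA : ∀ t : K, Ψ (cE7.G.xu r' t) = cE7.G.xu r' ((A : K) * t ^ Q))
    (hB : ∀ t : K, Ψ (cE7.G.xu r t) = cE7.G.xu r ((B : K) * t ^ Q)) (hr' : r' = cE7.G.negr r) :
    ∃ u v : K, v ≠ 0 ∧ (cE7.G.xu r' u * cE7.G.xu r v)⁻¹ * Ψ (cE7.G.xu r' u * cE7.G.xu r v) =
      cE7.G.nE r (-v) := by
  obtain ⟨v, hv⟩ := IsAlgClosed.exists_pow_nat_eq (-((B⁻¹ : Kˣ) : K)) (show 0 < Q - 1 by omega)
  have hv0 : v ≠ 0 := fun h => by
    rw [h, zero_pow (by omega)] at hv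
    exact (neg_ne_zero.2 (Units.ne_zero _)) hv.symm
  open Polynomial in
  obtain ⟨u, hu⟩ := IsAlgClosed.exists_root
    ((C (A : K) * X ^ Q - X - C v⁻¹ : K[X])) (by
      have hd : (C (A : K) * X ^ Q - X - C v⁻¹ : K[X]).natDegree = Q := by
        rw [natDegree_sub_C, natDegree_sub_eq_left_of_natDegree_lt]
        · exact natDegree_C_mul_X_pow Q _ A.ne_zero
        · rw [natDegree_C_mul_X_pow Q _ A.ne_zero, natDegree_X]; omega
      intro h0
      rw [natDegree_eq_zero_iff_degree_le_zero.2 h0.le] at hd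
      omega)
  simp only [Polynomial.IsRoot, Polynomial.eval_sub, Polynomial.eval_mul, Polynomial.eval_C,
    Polynomial.eval_pow, Polynomial.eval_X, sub_eq_zero] at hu
  refine ⟨u, v, hv0, ?_⟩
  have hBv : (B : K) * v ^ Q = -v := by
    rw [← Nat.succ_pred_eq_of_pos (show 0 < Q by omega), pow_succ, show Q.pred = Q - 1 from rfl, hv]
    simp
  rw [map_mul, hA, hB, hBv, mul_inv_rev, cE7.G.xu_inv, cE7.G.xu_inv]
  calc cE7.G.xu r (-v) * cE7.G.xu r' (-u) * (cE7.G.xu r' ((A : K) * u ^ Q) * cE7.G.xu r (-v))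
      = cE7.G.xu r (-v) * (cE7.G.xu r' (-u) * cE7.G.xu r' ((A : K) * u ^ Q)) * cE7.G.xu r (-v) := by
        group
    _ = _ := by
        rw [← cE7.G.xu_add, show -u + (A : K) * u ^ Q = v⁻¹ from by linear_combination hu]
        rw [Good.nE, ← hr', inv_neg, neg_neg]

end

/-! ### the twisted element -/

theorem cox_diag {K : Type*} [Field K] {m : GL chevE6.Idx K}
    (hmon : m ∈ chevE6.monomialSubgroup K) (hperm : cE6.G.NPerm m cox) :
    m * (cE6.G.nw (wordOf coxW))⁻¹ ∈ chevE6.diagonalSubgroup K := by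
  have h1 : m * (cE6.G.nw (wordOf coxW))⁻¹ ∈ chevE6.monomialSubgroup K :=
    mul_mem hmon (inv_mem (cE6.G.nw_mem_monomial _))
  have h2 := Good.NPerm.mul cE6.G hperm
    (Good.NPerm.inv cE6.G (cE6.G.nPerm_nw (K := K) (wordOf coxW)))
  have e : cox * (cE6.G.pw (wordOf coxW))⁻¹ = 1 := by rw [cox, mul_inv_cancel]
  rw [e] at h2
  exact cE6.G.mem_H_of_nPerm_one h1 h2

/-- an element that a power map twists by `piSeven` -/
theorem lang_seven_aux {K : Type*} [Field K] [IsAlgClosed K] (τ : K →+* K) {q : ℕ} (hq : 2 ≤ q)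
    (hτ : ∀ a, τ a = a ^ q) {c₆ : GL chevE6.Idx K} (hc₆ : c₆ ∈ chevE6.group K)
    (hmon : c₆⁻¹ * fmap chevE6 τ c₆ ∈ chevE6.monomialSubgroup K)
    (hperm : cE6.G.NPerm (c₆⁻¹ * fmap chevE6 τ c₆) cox) :
    ∃ c ∈ chevE7.group K, c⁻¹ * fmap chevE7 τ c ∈ chevE7.monomialSubgroup K ∧
      cE7.G.NPerm (c⁻¹ * fmap chevE7 τ c) piSeven := by
  classical
  have hP := hasPair_tab (by simp) cE6 (D := chevE6)
  obtain ⟨c₇, hc₇⟩ := pairs_lift cE6 cE7 embSixSeven_ok hc₆
  have hm₁ := pairs_twist cE6 cE7 embSixSeven_ok τ hc₇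
  have hd := cox_diag hmon hperm
  rw [cE6.G.diagonal_eq_range] at hd
  obtain ⟨d, hd⟩ := hd
  have hm₂ := pairs_monomial cE6 cE7 embSixSeven_ok hP (wordOf coxW) d hd
  obtain ⟨κ, -, hκ, -⟩ := pairs_ext cE6 cE7 embSixSeven_ok hP hm₂ hm₁
  set m := c₇⁻¹ * fmap chevE7 τ c₇
  have hwl : (wordOf coxW).map (up embSixSeven_ok) = word7 coxW := by
    refine List.map_injective_iff.2 Fin.val_injective ?_
    rw [word7_val _ coxW_lt, List.map_map]
    exact (List.map_congr_left fun x _ => rfl).trans (wordOf_val coxW rfl)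
  rw [hwl] at hκ
  set W := cE7.G.pw (word7 coxW) with hW
  have hdiag : ∀ a : Fin chevE7.rank → Kˣ, cE7.G.torθ a ∈ chevE7.diagonalSubgroup K := fun a =>
    (cE7.G.diagonal_eq_range (K := K)).symm ▸ MonoidHom.mem_range.2 ⟨a, rfl⟩
  have hmmon : m ∈ chevE7.monomialSubgroup K := hκ ▸ mul_mem (mul_mem
    (cE7.G.H_le_monomial (hdiag _)) (cE7.G.nw_mem_monomial _)) (cE7.G.H_le_monomial (hdiag _))
  have hmperm : cE7.G.NPerm m W := by
    have h := Good.NPerm.mul cE7.G (Good.NPerm.mul cE7.G (cE7.G.nPerm_H (hdiag (pad chevE6 chevE7 d)))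
      (cE7.G.nPerm_nw (K := K) (word7 coxW))) (cE7.G.nPerm_H (hdiag (pad chevE6 chevE7 κ)))
    rw [one_mul, mul_one, ← hκ] at h
    exact h
  -- the twisted map
  let T : GL chevE7.Idx K →* GL chevE7.Idx K := (MulAut.conj m).toMonoidHom.comp (fmap chevE7 τ)
  have hT : ∀ x, T x = m * fmap chevE7 τ x * m⁻¹ := fun x => by simp [T]
  have hTx : ∀ s : Fin chevE7.nroots, ∃ a : Kˣ, ∀ t : K,
      T (cE7.G.xu s t) = cE7.G.xu (W s) ((a : K) * t ^ q) := fun s => by
    obtain ⟨a, ha⟩ := hmperm s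
    exact ⟨a, fun t => by rw [hT, cE7.G.fmap_xu, hτ, ha]⟩
  have hT3 : ∀ s : Fin chevE7.nroots, W (W (W s)) = s → ∃ a : Kˣ, ∀ t : K,
      T (T (T (cE7.G.xu s t))) = cE7.G.xu s ((a : K) * t ^ (q ^ 3)) := fun s hs => by
    obtain ⟨a₁, h₁⟩ := hTx s
    obtain ⟨a₂, h₂⟩ := hTx (W s)
    obtain ⟨a₃, h₃⟩ := hTx (W (W s))
    refine ⟨a₃ * a₂ ^ q * a₁ ^ (q * q), fun t => ?_⟩
    rw [h₁, h₂, h₃, hs]
    congr 1
    push_cast
    ring
  have hWneg : ∀ s, W (cE7.G.negr s) = cE7.G.negr (W s) := fun s => cE7.G.pw_negr _ _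
  have hWA : W rootA = rootB := Fin.ext (pw7_val coxW_lt _)
  have hWB : W rootB = rootC := Fin.ext (pw7_val coxW_lt _)
  have hWC : W rootC = rootA := Fin.ext ((pw7_val coxW_lt _).trans cycleA)
  have h3 : W (W (W rootA)) = rootA := by rw [hWA, hWB, hWC]
  obtain ⟨A, hA⟩ := hT3 (cE7.G.negr rootA) (by rw [hWneg, hWneg, hWneg, h3])
  obtain ⟨B, hB⟩ := hT3 rootA h3
  obtain ⟨u, v, hv, huv⟩ := exists_sl2_twist (Q := q ^ 3)
    (le_trans hq (Nat.le_self_pow (by norm_num) _))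
    rootA (cE7.G.negr rootA) (T.comp (T.comp T)) A B hA hB rfl
  set d₁ := cE7.G.xu (cE7.G.negr rootA) u * cE7.G.xu rootA v
  set d₂ := T d₁
  set d₃ := T d₂
  -- the three subgroups commute
  let S : Fin chevE7.nroots → Set (GL chevE7.Idx K) := fun s =>
    {x | ∃ t, x = cE7.G.xu s t ∨ x = cE7.G.xu (cE7.G.negr s) t}
  have hd₁ : d₁ ∈ Subgroup.closure (S rootA) :=
    mul_mem (Subgroup.subset_closure ⟨u, Or.inr rfl⟩) (Subgroup.subset_closure ⟨v, Or.inl rfl⟩)
  have hmove : ∀ s, ∀ x ∈ Subgroup.closure (S s), T x ∈ Subgroup.closure (S (W s)) := by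
    intro s x hx
    have hle : Subgroup.closure (S s) ≤ (Subgroup.closure (S (W s))).comap T := by
      rw [Subgroup.closure_le]
      rintro _ ⟨t, rfl | rfl⟩
      · obtain ⟨a, ha⟩ := hTx s
        exact Subgroup.subset_closure ⟨_, Or.inl (ha t)⟩
      · obtain ⟨a, ha⟩ := hTx (cE7.G.negr s)
        exact Subgroup.subset_closure ⟨(a : K) * t ^ q, Or.inr (by rw [ha t, hWneg])⟩
    exact hle hx
  have hd₂ : d₂ ∈ Subgroup.closure (S rootB) := hWA ▸ hmove _ _ hd₁
  have hd₃ : d₃ ∈ Subgroup.closure (S rootC) := hWB ▸ hmove _ _ hd₂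
  have hcomm : ∀ (r s : Fin chevE7.nroots),
      (∀ a ∈ [r.val, fastE7.negs.get r.val], ∀ b ∈ [s.val, fastE7.negs.get s.val],
        b ≠ a ∧ b ≠ fastE7.negs.get a ∧ (commTermsF chevE7 fastE7 a b).length = 0) →
      ∀ x ∈ Subgroup.closure (S r), ∀ y ∈ Subgroup.closure (S s), Commute x y := by
    intro r s h x hx y hy
    have hgen : ∀ x' ∈ S r, ∀ y' ∈ S s, Commute x' y' := by
      have key : ∀ r' s' : Fin chevE7.nroots, r'.val ∈ [r.val, fastE7.negs.get r.val] →
          s'.val ∈ [s.val, fastE7.negs.get s.val] → ∀ t t' : K,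
          Commute (cE7.G.xu r' t) (cE7.G.xu s' t') := fun r' s' hr' hs' t t' => by
        obtain ⟨h1, h2, h3⟩ := h _ hr' _ hs'
        exact commute_of_noterms h1 h2 h3 t t'
      have hn : ∀ a : Fin chevE7.nroots, (cE7.G.negr a).val ∈ [a.val, fastE7.negs.get a.val] := fun a => by
        rw [negs7]; simp
      rintro _ ⟨t, rfl | rfl⟩ _ ⟨t', rfl | rfl⟩
      · exact key _ _ (List.mem_cons_self ..) (List.mem_cons_self ..) t t'
      · exact key _ _ (List.mem_cons_self ..) (hn _) t t'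
      · exact key _ _ (hn _) (List.mem_cons_self ..) t t'
      · exact key _ _ (hn _) (hn _) t t'
    have h1 : ∀ x' ∈ S r, Commute x' y := by
      intro x' hx'
      have hle : Subgroup.closure (S s) ≤ Subgroup.centralizer {x'} := by
        rw [Subgroup.closure_le]
        exact fun y' hy' => Subgroup.mem_centralizer_singleton_iff.2 (hgen x' hx' y' hy').symm.eq
      exact (Subgroup.mem_centralizer_singleton_iff.1 (hle hy)).symm
    have hle : Subgroup.closure (S r) ≤ Subgroup.centralizer {y} := by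
      rw [Subgroup.closure_le]
      exact fun x' hx' => Subgroup.mem_centralizer_singleton_iff.2 (h1 x' hx').eq
    exact Subgroup.mem_centralizer_singleton_iff.1 (hle hx)
  have c12 := hcomm rootA rootB (fun a ha b hb => no_comm a ha b (List.mem_append_left [_, _] hb)) d₁ hd₁ d₂ hd₂
  have c13 := hcomm rootA rootC (fun a ha b hb => no_comm a ha b (List.mem_append_right [_, _] hb)) d₁ hd₁ d₃ hd₃
  set D := d₁ * d₂ * d₃
  have hmD : D⁻¹ * T D = cE7.G.nE rootA (-v) := by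
    rw [← huv]
    show D⁻¹ * T D = d₁⁻¹ * T (T (T d₁))
    rw [show T D = d₂ * d₃ * T d₃ from by simp only [D, map_mul]; rfl,
      show D = d₂ * d₃ * d₁ from ((c12.mul_right c13).eq ▸ mul_assoc d₁ d₂ d₃ : _)]
    rw [mul_inv_rev]
    show d₁⁻¹ * (d₂ * d₃)⁻¹ * (d₂ * d₃ * T (T (T d₁))) = _
    group
  have hDG : D ∈ chevE7.group K := by
    have hS : ∀ s, Subgroup.closure (S s) ≤ chevE7.group K := fun s => by
      rw [Subgroup.closure_le]
      rintro _ ⟨t, rfl | rfl⟩ <;> exact cE7.G.xu_mem _ _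
    exact mul_mem (mul_mem (hS _ hd₁) (hS _ hd₂)) (hS _ hd₃)
  refine ⟨c₇ * D, mul_mem (pairs_snd_mem cE6 cE7 embSixSeven_ok hc₇) hDG, ?_, ?_⟩
  all_goals
    rw [show (c₇ * D)⁻¹ * fmap chevE7 τ (c₇ * D) = (D⁻¹ * T D) * m by rw [hT, map_mul]; simp only [m]; group, hmD]
  · exact mul_mem (nE_rootA (neg_ne_zero.2 hv)).1 hmmon
  · rw [show piSeven = cE7.G.pw (word7 (lW ++ [1] ++ lW.reverse)) * W by
      rw [hW, ← cE7.G.pw_append, piSeven]
      congr 1]
    exact Good.NPerm.mul cE7.G (nE_rootA (neg_ne_zero.2 hv)).2 hmperm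

/-- an element over the algebraic closure that the Frobenius map twists by `piSeven` -/
theorem lang_seven {F : Type*} [Field F] [Fintype F] :
    ∃ c ∈ chevE7.group (AlgebraicClosure F),
      c⁻¹ * fmap chevE7 (FiniteField.frobeniusAlgHom F (AlgebraicClosure F)).toRingHom c ∈
          chevE7.monomialSubgroup (AlgebraicClosure F) ∧
        cE7.G.NPerm (c⁻¹ * fmap chevE7 (FiniteField.frobeniusAlgHom F (AlgebraicClosure F)).toRingHom c)
          piSeven := by
  obtain ⟨c₆, hc₆, hmon, hperm⟩ := lang_six (F := F)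
  exact lang_seven_aux _ (Fintype.one_lt_card (α := F)) (fun a => rfl) hc₆ hmon hperm

end CfsgLib.Lie.CoxTorusE7
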